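import Groth.Agent.H17.Flat.Admissible
import Groth.Agent.H17.Chev.Equidim10
import Groth.Agent.H22.RedImm

/-!
# Admissible components (EGA IV 15.2.5-type statement): assembly lemmas
-/

set_option autoImplicit false
set_option linter.unusedSectionVars false
set_option linter.style.haveILetI false
universe u
open CategoryTheory CategoryTheory.Limits AlgebraicGeometry Topology TopologicalSpace IsLocalRing
open Groth.Agent.H15.StalkLoc Groth.Agent.H99.LocFactorial Groth.Agent.H49.FibreStalk
open Groth.Agent.H17.Chev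

namespace Groth.Agent.H17.Flat

/-- An order lemma: if `b` has the same finite coheight in `S ⊆ S'` and `m` is the greatest element
of `S'` above `b`, then `m ∈ S`. -/
theorem mem_of_coheight_eq {B : Type*} [Preorder B] (hanti : ∀ a c : B, a ≤ c → c ≤ a → a = c)
    (S S' : Set B) (hSS' : S ⊆ S') (b : B) (hb : b ∈ S) (n : ℕ)
    (h1 : (n : ℕ∞) ≤ Order.coheight (⟨b, hb⟩ : ↥S))
    (h2 : Order.coheight (⟨b, hSS' hb⟩ : ↥S') ≤ n)
    (m : B) (hm : m ∈ S') (hmax : ∀ t ∈ S', b ≤ t → t ≤ m) : m ∈ S := by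
  obtain ⟨p, hphead, hplen⟩ := Order.exists_series_of_le_coheight (⟨b, hb⟩ : ↥S) h1
  let φ : ↥S → ↥S' := fun t => ⟨t.1, hSS' t.2⟩
  have hφ : StrictMono φ := fun a c h => h
  let q : LTSeries ↥S' := p.map φ hφ
  have hqhead : q.head = ⟨b, hSS' hb⟩ := by
    change φ p.head = _
    rw [hphead]
  have hqlast : q.last = φ p.last := rfl
  have hblast : (⟨b, hSS' hb⟩ : ↥S') ≤ q.last := hqhead ▸ q.head_le_last
  have hlast_le : q.last ≤ ⟨m, hm⟩ := hmax q.last.1 q.last.2 hblast
  by_contra hmS
  have hnle : ¬ (⟨m, hm⟩ : ↥S') ≤ q.last := by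
    intro hle
    have h3 : q.last.1 = m := hanti _ _ hlast_le hle
    apply hmS
    rw [← h3, hqlast]
    exact p.last.2
  have hlt : q.last < ⟨m, hm⟩ := lt_of_le_not_ge hlast_le hnle
  have h3 : ((q.snoc ⟨m, hm⟩ hlt).length : ℕ∞) ≤ Order.coheight (⟨b, hSS' hb⟩ : ↥S') := by
    apply Order.length_le_coheight
    rw [RelSeries.head_snoc, hqhead]
  have h4 : (q.snoc ⟨m, hm⟩ hlt).length = n + 1 := by
    change q.length + 1 = n + 1
    change p.length + 1 = n + 1
    rw [hplen]
  rw [h4] at h3
  have h5 := h3.trans h2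
  have h6 : ((n + 1 : ℕ) : ℕ∞) ≤ (n : ℕ∞) := h5
  rw [Nat.cast_le] at h6
  omega

/-- transport of geometric reducedness between the two descriptions of a point of a fibre -/
theorem isGeomReducedAt_fiber_iff_asFiber {X Y : Scheme.{u}} (f : X ⟶ Y) (p : X) (y : Y)
    (hy : f p = y) (z : ↥(f.fiber y)) (hz : f.fiberι y z = p) :
    FBase.IsGeomReducedAt (f.fiberToSpecResidueField y) z ↔
      FBase.IsGeomReducedAt (f.fiberToSpecResidueField (f p)) (f.asFiber p) := by
  subst hy
  have : z = f.asFiber p :=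
    (f.fiberι (f p)).isEmbedding.injective (by rw [hz, f.fiberι_asFiber])
  rw [this]

/-- In a reduced scheme, the prime of a point generizing everything is zero. -/
theorem genPrime_eq_bot_of_forall_specializes {Z : Scheme.{u}} [IsReduced Z] {w' ξ' : Z}
    (h : ξ' ⤳ w') (hgen : ∀ t : Z, ξ' ⤳ t) : genPrime h = ⊥ := by
  rw [eq_bot_iff]
  have h1 : genPrime h ≤ nilradical (Z.presheaf.stalk w') := by
    rw [nilradical_eq_sInf]
    refine le_sInf ?_
    intro P hP
    haveI : P.IsPrime := hP
    obtain ⟨z, hz, rfl⟩ := exists_genPrime_eq' w' P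
    exact genPrime_mono hz (hgen z)
  rwa [nilradical_eq_zero] at h1

/-- Facts about an "admissible" closed subset. -/
theorem adm_facts {X Y : Scheme.{u}} [IsLocallyNoetherian Y] (f : X ⟶ Y) [LocallyOfFiniteType f]
    (x w : X) (hfw : f w = f x) (hwx : w ⤳ x)
    (hwtop : ∀ t : X, f t = f x → t ⤳ x → w ⤳ t)
    (hwred : FBase.IsGeomReducedAt (f.fiberToSpecResidueField (f w)) (f.asFiber w))
    (X' : TopologicalSpace.Closeds X) (hx : x ∈ X')
    (hdim : FlatMor.localDim ↥((X' : Set X) ∩ f.base ⁻¹' {f.base x})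
      ⟨x, ⟨hx, Set.mem_singleton (f.base x)⟩⟩ = FlatMor.fibreDimAt f x)
    (hUO : ∀ w' : ↥(Scheme.IdealSheafData.vanishingIdeal X').subscheme,
      f.base ((Scheme.IdealSheafData.vanishingIdeal X').subschemeι.base w') = f.base x →
      x ∈ closure {(Scheme.IdealSheafData.vanishingIdeal X').subschemeι.base w'} →
      (∀ t : X, t ∈ (X' : Set X) → f.base t = f.base x →
          (Scheme.IdealSheafData.vanishingIdeal X').subschemeι.base w' ∈ closure {t} →
          t = (Scheme.IdealSheafData.vanishingIdeal X').subschemeι.base w') →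
      EGA43.IsUnivOpenAt ((Scheme.IdealSheafData.vanishingIdeal X').subschemeι ≫ f) w') :
    w ∈ (X' : Set X) ∧
    (∀ ξ : X, ξ ⤳ w → FBase.IsGeomReducedAt (f.fiberToSpecResidueField (f ξ)) (f.asFiber ξ)) ∧
    (∀ (ξ : X) (hξ : ξ ⤳ w), ξ ∈ (X' : Set X) → (X' : Set X) ⊆ closure {ξ} →
      genPrime hξ ≤ nilradical (X.presheaf.stalk w)) := by
  classical
  haveI : IsLocallyNoetherian X := LocallyOfFiniteType.isLocallyNoetherian f
  -- `w ∈ X'`
  have hwX' : w ∈ (X' : Set X) := by
    have hlft : LocallyOfFiniteType (f.fiberToSpecResidueField (f.base x)) :=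
      inferInstanceAs (LocallyOfFiniteType (pullback.snd f (Y.fromSpecResidueField (f.base x))))
    haveI : IsLocallyNoetherian (f.fiber (f.base x)) :=
      LocallyOfFiniteType.isLocallyNoetherian (f.fiberToSpecResidueField (f.base x))
    have hc1 := coheight_inter_fibre_eq_of_localDim_eq f (X' : Set X) X'.isClosed x hx hdim
    have hc2 := stalk_eq_coheight_range (f.fiberι (f.base x)) (f.asFiber x)
    have hc3 : Order.coheight (⟨(f.fiberι (f.base x)).base (f.asFiber x), f.asFiber x, rfl⟩ :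
        ↥(Set.range (f.fiberι (f.base x)).base)) =
        Order.coheight (⟨x, rfl⟩ : ↥(f.base ⁻¹' {f.base x})) :=
      coheight_subtype_congr' (f.range_fiberι (f.base x)) (f.fiberι_asFiber x) _ _
    rw [hc3] at hc2
    have hfin : ringKrullDim ((f.fiber (f.base x)).presheaf.stalk (f.asFiber x)) < ⊤ :=
      ringKrullDim_lt_top
    obtain ⟨n, hn⟩ : ∃ n : ℕ, Order.coheight (⟨x, rfl⟩ : ↥(f.base ⁻¹' {f.base x})) = n := by
      rw [hc2] at hfin
      have hne : Order.coheight (⟨x, rfl⟩ : ↥(f.base ⁻¹' {f.base x})) ≠ ⊤ := by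
        intro h
        rw [h] at hfin
        exact lt_irrefl _ hfin
      exact ⟨_, (ENat.natCast_toNat hne).symm⟩
    have hn' : Order.coheight (⟨x, hx, rfl⟩ : ↥((X' : Set X) ∩ f.base ⁻¹' {f.base x})) = n := by
      have : (Order.coheight (⟨x, hx, rfl⟩ : ↥((X' : Set X) ∩ f.base ⁻¹' {f.base x})) :
          WithBot ℕ∞) = ((n : ℕ∞) : WithBot ℕ∞) := by
        rw [hc1, hc2, hn]
      exact WithBot.coe_injective this
    have := mem_of_coheight_eq (B := X)
      (fun a c h1 h2 => (Specializes.antisymm (Scheme.le_iff_specializes.mp h2)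
        (Scheme.le_iff_specializes.mp h1)).eq)
      ((X' : Set X) ∩ f.base ⁻¹' {f.base x}) (f.base ⁻¹' {f.base x}) Set.inter_subset_right x
      ⟨hx, rfl⟩ n hn'.ge hn.le w hfw
      (fun t ht hxt => Scheme.le_iff_specializes.mpr
        (hwtop t ht (Scheme.le_iff_specializes.mp hxt)))
    exact this.1
  refine ⟨hwX', ?_⟩
  -- the reduced subscheme
  have hr : Set.range (Scheme.IdealSheafData.vanishingIdeal X').subschemeι.base = (X' : Set X) := by
    rw [Scheme.IdealSheafData.range_subschemeι]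
    exact Scheme.IdealSheafData.coe_support_vanishingIdeal _
  haveI hred : IsReduced (Scheme.IdealSheafData.vanishingIdeal X').subscheme :=
    Groth.Agent.H22.isReduced_subscheme_vanishingIdeal _
  generalize (Scheme.IdealSheafData.vanishingIdeal X') = I at hr hred hUO
  obtain ⟨w', hw'⟩ : w ∈ Set.range I.subschemeι.base := by rw [hr]; exact hwX'
  have hwmax : ∀ t : X, t ⤳ w → f t = f w → t = w := by
    intro t ht hft
    exact (Specializes.antisymm ht (hwtop t (hft.trans hfw) (ht.trans hwx))).eq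
  have huo : EGA43.IsUnivOpenAt (I.subschemeι ≫ f) w' := by
    refine hUO w' ?_ ?_ ?_
    · rw [show I.subschemeι w' = w from hw']; exact hfw
    · rw [show I.subschemeι.base w' = w from hw']
      exact specializes_iff_mem_closure.mp hwx
    · intro t _ hft htw
      rw [show I.subschemeι.base w' = w from hw'] at htw ⊢
      have h1 : t ⤳ w := specializes_iff_mem_closure.mpr htw
      exact hwmax t h1 (hft.trans hfw.symm)
  subst hw'
  obtain ⟨hC1, hC2⟩ := geomReduced_and_ker_le_nilradical f I.subschemeι w' hwmax hwred huo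
  refine ⟨hC1, ?_⟩
  intro ξ hξ hξX' hX'ξ
  obtain ⟨ξ', rfl⟩ : ξ ∈ Set.range I.subschemeι.base := by rw [hr]; exact hξX'
  have hp : ξ' ⤳ w' := I.subschemeι.isEmbedding.toIsInducing.specializes_iff.mp hξ
  have hgen : ∀ t : ↥I.subscheme, ξ' ⤳ t := by
    intro t
    apply I.subschemeι.isEmbedding.toIsInducing.specializes_iff.mp
    rw [specializes_iff_mem_closure]
    apply hX'ξ
    rw [← hr]
    exact ⟨t, rfl⟩
  intro a ha
  apply hC2
  rw [RingHom.mem_ker]
  have h1 : a ∈ (genPrime hp).comap (I.subschemeι.stalkMap w').hom := by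
    rw [comap_genPrime]; exact ha
  rw [Ideal.mem_comap, genPrime_eq_bot_of_forall_specializes hp hgen] at h1
  exact h1

end Groth.Agent.H17.Flat
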