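import Mathlib
import Groth.Agent.H94.SmoothGeneric

set_option autoImplicit false
set_option linter.unusedSectionVars false
set_option linter.style.haveILetI false
universe u
open scoped TensorProduct
open IsLocalRing Function

namespace Groth.Agent.H17.Flat

/-- **(T)** geometric reducedness over a field does not depend on the base field up to
isomorphism -/
theorem isGeometricallyReduced_of_ringEquiv (k₁ k₂ F : Type u) [Field k₁] [Field k₂] [CommRing F]
    [Algebra k₁ F] [Algebra k₂ F] (e : k₁ ≃+* k₂)
    (he : ∀ x : k₁, algebraMap k₁ F x = algebraMap k₂ F (e x))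
    [Algebra.IsGeometricallyReduced k₂ F] : Algebra.IsGeometricallyReduced k₁ F := by
  rw [Algebra.isGeometricallyReduced_field_iff]
  let Ω := AlgebraicClosure k₁
  letI a0 : Algebra k₁ k₂ := e.toRingHom.toAlgebra
  letI a1 : Algebra k₂ Ω := ((algebraMap k₁ Ω).comp e.symm.toRingHom).toAlgebra
  haveI t1 : IsScalarTower k₁ k₂ Ω := by
    refine IsScalarTower.of_algebraMap_eq fun x => ?_
    change _ = algebraMap k₁ Ω (e.symm (e x))
    rw [e.symm_apply_apply]
  haveI t2 : IsScalarTower k₁ k₂ F := IsScalarTower.of_algebraMap_eq fun x => he x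
  haveI : Algebra.IsAlgebraic k₂ Ω := Algebra.IsAlgebraic.tower_top (K := k₁) k₂
  haveI : IsReduced (Ω ⊗[k₂] F) := inferInstance
  haveI c1 : TensorProduct.CompatibleSMul k₁ k₂ Ω F := by
    refine ⟨fun r m n => ?_⟩
    obtain ⟨r₁, rfl⟩ := e.surjective r
    have h1 : (e r₁) • m = r₁ • m := by
      rw [Algebra.smul_def, Algebra.smul_def]
      change algebraMap k₁ Ω (e.symm (e r₁)) * m = _
      rw [e.symm_apply_apply]
    have h2 : (e r₁) • n = r₁ • n := by
      rw [Algebra.smul_def, Algebra.smul_def, he]
    rw [h1, h2, TensorProduct.smul_tmul]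
  let ε : Ω ⊗[k₂] F ≃ₐ[k₁] Ω ⊗[k₁] F :=
    Algebra.TensorProduct.equivOfCompatibleSMul k₁ k₂ k₁ Ω F
  exact isReduced_of_injective ε.symm.toRingEquiv.toRingHom ε.symm.injective

/-- **(L-sep)** a separating transcendence basis of the residue field extension, lifted to the
local ring -/
theorem exists_sepBasis_local (A B : Type u) [CommRing A] [CommRing B] [IsLocalRing A]
    [IsLocalRing B] [Algebra A B] [IsLocalHom (algebraMap A B)] [Algebra.EssFiniteType A B]
    [Algebra.IsGeometricallyReduced (ResidueField A) (ResidueField B)] :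
    ∃ (n : ℕ) (t : Fin n → B),
      AlgebraicIndependent (ResidueField A) (fun i => residue B (t i)) ∧
      Algebra.IsSeparable (IntermediateField.adjoin (ResidueField A)
        (Set.range fun i => residue B (t i))) (ResidueField B) := by
  classical
  haveI : Algebra.EssFiniteType A (ResidueField B) := Algebra.EssFiniteType.comp A B _
  haveI : Algebra.EssFiniteType (ResidueField A) (ResidueField B) :=
    Algebra.EssFiniteType.of_comp A (ResidueField A) (ResidueField B)
  obtain ⟨s, hs, hsep⟩ := Groth.Agent.H94.SmoothGeneric.exists_sepBasis (ResidueField A)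
    (ResidueField B)
  let e : Fin s.card ≃ s := s.equivFin.symm
  have hsurj : ∀ i : Fin s.card, ∃ b : B, residue B b = (e i : ResidueField B) := fun i =>
    IsLocalRing.residue_surjective _
  choose t ht using hsurj
  refine ⟨s.card, t, ?_, ?_⟩
  · have h1 : (fun i => residue B (t i)) = ((↑) : s → ResidueField B) ∘ e := by
      funext i; exact ht i
    rw [h1]
    exact hs.1.comp e e.injective
  · have h2 : (Set.range fun i => residue B (t i)) = (s : Set (ResidueField B)) := by
      ext x
      constructor
      · rintro ⟨i, rfl⟩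
        change residue B (t i) ∈ (s : Set (ResidueField B))
        rw [ht i]; exact (e i).2
      · intro hx
        refine ⟨e.symm ⟨x, hx⟩, ?_⟩
        change residue B (t _) = x
        rw [ht, e.apply_symm_apply]
    rw [h2]
    exact hsep

end Groth.Agent.H17.Flat
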