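import Mathlib
import Groth.Prelude.Def_FDesc
import Groth.Prelude.Def_Curv2
import Groth.Agent.H25.StalkBC
import Groth.Agent.H25.GeomRedAt
import Groth.Agent.H49.FibreStalk
import Groth.Agent.H99.LocFactorial
import Groth.Agent.H17.Flat.FieldLemmas

set_option autoImplicit false
set_option linter.unusedSectionVars false
set_option linter.style.haveILetI false
universe u
open CategoryTheory CategoryTheory.Limits AlgebraicGeometry Topology TopologicalSpace IsLocalRing
open Groth.Agent.H15.StalkLoc Groth.Agent.H99.LocFactorial Groth.Agent.H49.FibreStalk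
open Groth.Agent.H25.StalkBC

namespace Groth.Agent.H17.Flat

/-- **(c)** compatibility of the two maps from the local ring of `Y` to the local ring of the
fibre -/
theorem stalkMap_fiberι_comp {X Y : Scheme.{u}} (f : X ⟶ Y) (y : Y) (w : ↥(f.fiber y))
    (h : y ⤳ f (f.fiberι y w)) :
    f.stalkMap (f.fiberι y w) ≫ (f.fiberι y).stalkMap w =
      Y.presheaf.stalkSpecializes h ≫ Y.residue y ≫
        CommRingCat.ofHom (stalkHom (f.fiberToSpecResidueField y) w) := by
  apply Spec.map_injective
  rw [← cancel_mono (Y.fromSpecStalk (f (f.fiberι y w)))]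
  rw [Spec.map_comp, Category.assoc, Scheme.SpecMap_stalkMap_fromSpecStalk,
    Scheme.SpecMap_stalkMap_fromSpecStalk_assoc]
  rw [Spec.map_comp, Spec.map_comp, Category.assoc, Category.assoc,
    Scheme.SpecMap_stalkSpecializes_fromSpecStalk h]
  change _ = _ ≫ Y.fromSpecResidueField y
  have h1 : (f.fiber y).fromSpecStalk w ≫ f.fiberToSpecResidueField y =
      Spec.map (CommRingCat.ofHom (stalkHom (f.fiberToSpecResidueField y) w)) :=
    fromSpecStalk_comp _ w
  rw [f.fiber_fac y, ← Category.assoc]
  exact congrArg (· ≫ Y.fromSpecResidueField y) h1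

attribute [local instance] Curv2.stalkAlgebra in
/-- the local ring of the fibre at a maximal point at which the fibre is geometrically reduced is
a field, and the residue field extension is geometrically reduced -/
theorem fibre_stalk_facts {X Y : Scheme.{u}} (f : X ⟶ Y) (y : Y)
    (w : ↥(f.fiber y)) (hmax : ∀ w' : ↥(f.fiber y), w' ⤳ w → w' = w)
    (hred : FBase.IsGeomReducedAt (f.fiberToSpecResidueField y) w)
    [Algebra (Y.presheaf.stalk (f (f.fiberι y w))) (X.presheaf.stalk (f.fiberι y w))]
    (halg : algebraMap (Y.presheaf.stalk (f (f.fiberι y w))) (X.presheaf.stalk (f.fiberι y w)) =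
      (f.stalkMap (f.fiberι y w)).hom)
    [IsLocalHom (algebraMap (Y.presheaf.stalk (f (f.fiberι y w)))
      (X.presheaf.stalk (f.fiberι y w)))] :
    (maximalIdeal (Y.presheaf.stalk (f (f.fiberι y w)))).map
      (algebraMap _ (X.presheaf.stalk (f.fiberι y w))) = maximalIdeal _ ∧
    Algebra.IsGeometricallyReduced (ResidueField (Y.presheaf.stalk (f (f.fiberι y w))))
      (ResidueField (X.presheaf.stalk (f.fiberι y w))) := by
  let κy := ResidueField (Y.presheaf.stalk y)
  let F := (f.fiber y).presheaf.stalk w
  let ψ : X.presheaf.stalk (f.fiberι y w) →+* F := ((f.fiberι y).stalkMap w).hom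
  have hψsurj : Function.Surjective ψ := (f.fiberι y).stalkMap_surjective w
  letI ov : (f.fiber y).Over (Spec (CommRingCat.of κy)) := ⟨f.fiberToSpecResidueField y⟩
  have hG : Curv2.IsGeomReducedAt κy (f.fiber y) w := hred
  have hGR : Algebra.IsGeometricallyReduced κy F :=
    (Groth.Agent.H25.GeomRedAt.isGeomReducedAt_iff κy (f.fiber y) w).mp hG
  haveI hFred : IsReduced F := Algebra.isReduced_of_isGeometricallyReduced κy
  -- `F` is a field
  have hprime : ∀ 𝔮 : Ideal F, 𝔮.IsPrime → 𝔮 = maximalIdeal F := by
    intro 𝔮 h𝔮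
    obtain ⟨w', hw', rfl⟩ := exists_genPrime_eq' w 𝔮
    have := hmax w' hw'
    subst this
    exact genPrime_rfl w'
  have hmF : maximalIdeal F = ⊥ := by
    have h1 : nilradical F = maximalIdeal F := by
      rw [nilradical_eq_sInf]
      apply le_antisymm
      · exact sInf_le (inferInstance : (maximalIdeal F).IsPrime)
      · refine le_sInf fun J hJ => ?_
        rw [hprime J hJ]
    rw [← h1]
    exact nilradical_eq_zero F
  -- the kernel of `ψ`
  have hker : RingHom.ker ψ = maximalIdeal (X.presheaf.stalk (f.fiberι y w)) := by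
    ext x
    rw [RingHom.mem_ker, IsLocalRing.mem_maximalIdeal, mem_nonunits_iff]
    constructor
    · intro h0 hu
      have := hu.map ψ
      rw [h0] at this
      exact not_isUnit_zero this
    · intro hx
      have h2 : ψ x ∈ maximalIdeal F := by
        rw [IsLocalRing.mem_maximalIdeal, mem_nonunits_iff]
        intro hu
        exact hx (isUnit_of_map_unit ((f.fiberι y).stalkMap w).hom x hu)
      rw [hmF] at h2
      exact h2
  have hfib : RingHom.ker ψ = fibreIdeal f (f.fiberι y w) := ker_stalkMap_fiberι f y w
  have hmaxring : (maximalIdeal (Y.presheaf.stalk (f (f.fiberι y w)))).map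
      (algebraMap _ (X.presheaf.stalk (f.fiberι y w))) = maximalIdeal _ := by
    rw [halg, ← hker, hfib]
  refine ⟨hmaxring, ?_⟩
  let A := Y.presheaf.stalk (f (f.fiberι y w))
  let B := X.presheaf.stalk (f.fiberι y w)
  have hψm : ∀ x ∈ maximalIdeal B, ψ x = 0 := fun x hx => by
    rw [← RingHom.mem_ker, hker]; exact hx
  let ψ' : ResidueField B →+* F := Ideal.Quotient.lift (maximalIdeal B) ψ hψm
  have hψ'res : ∀ x : B, ψ' (residue B x) = ψ x := fun x => rfl
  have hψ'inj : Function.Injective ψ' := by
    rw [injective_iff_map_eq_zero]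
    intro x hx
    obtain ⟨x, rfl⟩ := IsLocalRing.residue_surjective x
    rw [hψ'res] at hx
    rw [IsLocalRing.residue_eq_zero_iff, ← hker]
    exact hx
  have hfz : f (f.fiberι y w) = y := (f.range_fiberι y).le ⟨w, rfl⟩
  have hins : Inseparable (f (f.fiberι y w)) y := .of_eq hfz
  let e₀ : A ≃+* Y.presheaf.stalk y := (Y.presheaf.stalkCongr hins).commRingCatIsoToRingEquiv
  have he₀ : ∀ a : A, e₀ a = (Y.presheaf.stalkSpecializes hins.ge).hom a := fun a => rfl
  let ε : ResidueField A ≃+* κy := IsLocalRing.ResidueField.mapEquiv e₀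
  letI algAF : Algebra (ResidueField A) F :=
    (ψ'.comp (algebraMap (ResidueField A) (ResidueField B))).toAlgebra
  have he : ∀ x : ResidueField A, algebraMap (ResidueField A) F x = algebraMap κy F (ε x) := by
    intro x
    obtain ⟨a, rfl⟩ := IsLocalRing.residue_surjective x
    change ψ' (algebraMap _ _ (residue A a)) = _
    rw [IsLocalRing.ResidueField.algebraMap_residue, hψ'res, halg]
    have := congrArg (fun φ => φ.hom a) (stalkMap_fiberι_comp f y w hins.ge)
    exact this
  haveI := isGeometricallyReduced_of_ringEquiv (ResidueField A) κy F ε he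
  let g : ResidueField B →ₐ[ResidueField A] F := { ψ' with commutes' := fun x => rfl }
  exact Algebra.IsGeometricallyReduced.of_injective g hψ'inj

end Groth.Agent.H17.Flat
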