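import Mathlib

/-!
# Flatness over a DVR from a reduced special fibre whose generic points generize
-/

set_option autoImplicit false
universe u
open IsLocalRing Function

namespace Groth.Agent.H17.Flat

/-- Let `T` be a DVR and `C` a Noetherian local `T`-algebra (local homomorphism) such that
`C/m_T C` is reduced and every minimal prime of `m_T C` contains a prime not containing `m_T C`.
Then `C` is flat over `T`. -/
theorem flat_of_dvr_of_reduced_fibre (T C : Type u) [CommRing T] [IsDomain T]
    [IsDiscreteValuationRing T] [CommRing C] [IsLocalRing C] [IsNoetherianRing C] [Algebra T C]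
    [IsLocalHom (algebraMap T C)]
    (hred : ((maximalIdeal T).map (algebraMap T C)).IsRadical)
    (hgen : ∀ q ∈ ((maximalIdeal T).map (algebraMap T C)).minimalPrimes,
      ∃ q' : Ideal C, q'.IsPrime ∧ q' ≤ q ∧ ¬ (maximalIdeal T).map (algebraMap T C) ≤ q') :
    Module.Flat T C := by
  rw [IsDedekindDomain.flat_iff_torsion_eq_bot]
  obtain ⟨ϖ, hϖ⟩ := IsDiscreteValuationRing.exists_irreducible T
  set π := algebraMap T C ϖ with hπ
  have hmax : maximalIdeal T = Ideal.span {ϖ} := hϖ.maximalIdeal_eq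
  have hI₀ : (maximalIdeal T).map (algebraMap T C) = Ideal.span {π} := by
    rw [hmax, Ideal.map_span, Set.image_singleton]
  -- the ideal of π-power torsion
  let N' : Ideal C :=
    { carrier := {x | ∃ n : ℕ, π ^ n * x = 0}
      add_mem' := by
        rintro x y ⟨n, hn⟩ ⟨k, hk⟩
        refine ⟨n + k, ?_⟩
        have h1 : π ^ (n + k) * x = 0 := by rw [pow_add, mul_comm (π ^ n), mul_assoc, hn, mul_zero]
        have h2 : π ^ (n + k) * y = 0 := by rw [pow_add, mul_assoc, hk, mul_zero]
        rw [mul_add, h1, h2, add_zero]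
      zero_mem' := ⟨0, by simp⟩
      smul_mem' := by
        rintro c x ⟨n, hn⟩
        refine ⟨n, ?_⟩
        rw [smul_eq_mul, mul_left_comm, hn, mul_zero] }
  have hN'mem : ∀ x, x ∈ N' ↔ ∃ n : ℕ, π ^ n * x = 0 := fun x => Iff.rfl
  have hle : N' ≤ Ideal.span {π} := by
    intro x hx
    obtain ⟨n, hn⟩ := (hN'mem x).mp hx
    rw [← hI₀, ← hred.radical, ← Ideal.sInf_minimalPrimes, Ideal.mem_sInf]
    intro q hq
    obtain ⟨q', hq'p, hq'q, hq'π⟩ := hgen q hq
    apply hq'q
    have hπq' : π ∉ q' := by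
      intro h
      apply hq'π
      rw [hI₀, Ideal.span_singleton_le_iff_mem]
      exact h
    have : π ^ n * x ∈ q' := by rw [hn]; exact q'.zero_mem
    rcases hq'p.mem_or_mem this with h | h
    · exact absurd (hq'p.mem_of_pow_mem n h) hπq'
    · exact h
  have hN'bot : N' = ⊥ := by
    refine Submodule.eq_bot_of_le_smul_of_le_jacobson_bot (Ideal.span {π}) N'
      (IsNoetherian.noetherian N') ?_ ?_
    · intro x hx
      obtain ⟨b, rfl⟩ := Ideal.mem_span_singleton'.mp (hle hx)
      obtain ⟨n, hn⟩ := (hN'mem _).mp hx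
      have hb : b ∈ N' := ⟨n + 1, by rw [pow_succ, mul_assoc, mul_comm π b]; exact hn⟩
      rw [mul_comm]
      exact Submodule.smul_mem_smul (Ideal.mem_span_singleton_self π) hb
    · rw [IsLocalRing.jacobson_eq_maximalIdeal ⊥ bot_ne_top, Ideal.span_singleton_le_iff_mem]
      have : ϖ ∈ maximalIdeal T := by rw [hmax]; exact Ideal.mem_span_singleton_self ϖ
      exact IsLocalRing.map_maximalIdeal_le (algebraMap T C) (Ideal.mem_map_of_mem _ this)
  rw [Submodule.eq_bot_iff]
  intro x hx
  obtain ⟨t, ht⟩ := (Submodule.mem_torsion_iff x).mp hx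
  have ht0 : (t : T) ≠ 0 := nonZeroDivisors.coe_ne_zero t
  obtain ⟨n, u, hu⟩ := IsDiscreteValuationRing.eq_unit_mul_pow_irreducible ht0 hϖ
  have hx' : x ∈ N' := by
    refine ⟨n, ?_⟩
    have h1 : (t : T) • x = 0 := ht
    rw [hu, Algebra.smul_def, map_mul, map_pow, mul_assoc] at h1
    have hunit : IsUnit (algebraMap T C (u : T)) := (u.isUnit).map _
    exact (hunit.mul_right_eq_zero).mp h1
  rw [hN'bot] at hx'
  exact hx'

end Groth.Agent.H17.Flat
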