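import Mathlib
import Groth.Agent.H15.StalkLoc
import Groth.Agent.H99.LocFactorial
import Groth.Agent.H49.FibreStalk
import Groth.Agent.H17.Flat.DVRFlat

set_option autoImplicit false
set_option linter.unusedSectionVars false
set_option linter.style.haveILetI false
universe u
open CategoryTheory CategoryTheory.Limits AlgebraicGeometry Topology TopologicalSpace IsLocalRing
open Groth.Agent.H15.StalkLoc Groth.Agent.H99.LocFactorial Groth.Agent.H49.FibreStalk

namespace Groth.Agent.H17.Flat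

variable {X : Scheme.{u}}

theorem genPrime_mono {x x₁ x₂ : X} (h₁ : x₁ ⤳ x) (h₂ : x₂ ⤳ x₁) :
    genPrime (h₂.trans h₁) ≤ genPrime h₁ := by
  intro a ha
  rw [mem_genPrime_iff] at ha ⊢
  intro hu
  apply ha
  have := hu.map (X.presheaf.stalkSpecializes h₂).hom
  rwa [← CommRingCat.comp_apply, TopCat.Presheaf.stalkSpecializes_comp] at this

theorem comap_genPrime {P S : Scheme.{u}} (h : P ⟶ S) {p₀ p₁ : P} (hp : p₁ ⤳ p₀) :
    (genPrime hp).comap (h.stalkMap p₀).hom = genPrime (h.base.hom.map_specializes hp) := by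
  ext a
  rw [Ideal.mem_comap, mem_genPrime_iff, mem_genPrime_iff]
  rw [← Scheme.Hom.stalkSpecializes_stalkMap_apply]
  exact not_congr (isUnit_map_iff (h.stalkMap p₁).hom _)

theorem map_eq_of_fibreIdeal_le_genPrime {P S : Scheme.{u}} (h : P ⟶ S) {p₀ p₁ : P}
    (hp : p₁ ⤳ p₀) (hle : fibreIdeal h p₀ ≤ genPrime hp) : h p₁ = h p₀ := by
  have h1 : maximalIdeal (S.presheaf.stalk (h p₀)) ≤
      genPrime (h.base.hom.map_specializes hp) := by
    rw [← comap_genPrime, ← Ideal.map_le_iff_le_comap]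
    exact hle
  have h2 : genPrime (h.base.hom.map_specializes hp) = maximalIdeal _ :=
    ((IsLocalRing.maximalIdeal.isMaximal _).eq_of_le (Ideal.IsPrime.ne_top inferInstance) h1).symm
  exact eq_of_genPrime_eq (h.base.hom.map_specializes hp) specializes_rfl
    (h2.trans (genPrime_rfl _).symm)

theorem fibreIdeal_le_genPrime_of_map_eq {P S : Scheme.{u}} (h : P ⟶ S) {p₀ p₁ : P}
    (hp : p₁ ⤳ p₀) (he : h p₁ = h p₀) : fibreIdeal h p₀ ≤ genPrime hp := by
  rw [fibreIdeal, Ideal.map_le_iff_le_comap, comap_genPrime]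
  have : ∀ (s : S) (hs : s ⤳ h p₀), s = h p₀ → maximalIdeal _ ≤ genPrime hs := by
    rintro s hs rfl
    rw [genPrime_rfl]
  exact this _ _ he

/-- **Theorem D'**: flatness over a base whose local ring is a DVR, from a reduced fibre and lifting
of generizations at the generic points of the fibre. -/
theorem flat_stalkMap_of_dvr_base {P S : Scheme.{u}} [IsLocallyNoetherian S] (h : P ⟶ S)
    [LocallyOfFiniteType h] (p₀ : P)
    [IsDomain (S.presheaf.stalk (h p₀))] [IsDiscreteValuationRing (S.presheaf.stalk (h p₀))]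
    (hred : (fibreIdeal h p₀).IsRadical)
    (hopen : ∀ p₁ : P, p₁ ⤳ p₀ → h p₁ = h p₀ → ∀ η : S, η ⤳ h p₀ →
      ∃ p₂ : P, p₂ ⤳ p₁ ∧ h p₂ = η) :
    (h.stalkMap p₀).hom.Flat := by
  haveI : IsLocallyNoetherian P := LocallyOfFiniteType.isLocallyNoetherian h
  algebraize [(h.stalkMap p₀).hom]
  haveI : IsLocalHom (algebraMap (S.presheaf.stalk (h p₀)) (P.presheaf.stalk p₀)) :=
    inferInstanceAs (IsLocalHom (h.stalkMap p₀).hom)
  refine flat_of_dvr_of_reduced_fibre _ _ hred ?_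
  intro q hq
  haveI : q.IsPrime := hq.1.1
  obtain ⟨p₁, hp₁, rfl⟩ := exists_genPrime_eq' p₀ q
  have he : h p₁ = h p₀ := map_eq_of_fibreIdeal_le_genPrime h hp₁ hq.1.2
  -- the generic point of the DVR
  obtain ⟨η, hη, hηbot⟩ := exists_genPrime_eq' (h p₀) (⊥ : Ideal (S.presheaf.stalk (h p₀)))
  obtain ⟨p₂, hp₂, hp₂η⟩ := hopen p₁ hp₁ he η hη
  refine ⟨genPrime (hp₂.trans hp₁), inferInstance, genPrime_mono hp₁ hp₂, ?_⟩
  intro hle
  have he2 : h p₂ = h p₀ := map_eq_of_fibreIdeal_le_genPrime h (hp₂.trans hp₁) hle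
  rw [hp₂η] at he2
  have : ∀ (s : S) (hs : s ⤳ h p₀), s = h p₀ → genPrime hs ≠ ⊥ := by
    rintro s hs rfl
    rw [genPrime_rfl]
    exact IsDiscreteValuationRing.not_a_field _
  exact this η hη he2 hηbot

end Groth.Agent.H17.Flat
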