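import Mathlib
import Groth.Prelude.Def_EGA43
import Groth.Prelude.Def_FDesc
import Groth.Agent.S3404
import Groth.Agent.H17.Flat.DVRBase

set_option autoImplicit false
set_option linter.unusedSectionVars false
set_option linter.style.haveILetI false
universe u
open CategoryTheory CategoryTheory.Limits AlgebraicGeometry Topology TopologicalSpace IsLocalRing
open Groth.Agent.H15.StalkLoc Groth.Agent.H99.LocFactorial Groth.Agent.H49.FibreStalk

namespace Groth.Agent.H17.Flat

/-- the local ring of `Spec T` at the closed point of a DVR `T` is a DVR -/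
theorem dvr_stalk_closedPoint (T : Type u) [CommRing T] [IsDomain T] [IsDiscreteValuationRing T] :
    ∃ _ : IsDomain ((Spec (CommRingCat.of T)).presheaf.stalk (closedPoint T)),
      IsDiscreteValuationRing ((Spec (CommRingCat.of T)).presheaf.stalk (closedPoint T)) := by
  have hdom : IsDomain ((Spec (CommRingCat.of T)).presheaf.stalk (closedPoint T)) := inferInstance
  refine ⟨hdom, ?_⟩
  let k : Algebra T ((Spec (CommRingCat.of T)).presheaf.stalk (closedPoint T)) :=
    StructureSheaf.stalkAlgebra T (closedPoint T)
  have : IsLocalization.AtPrime ((Spec (CommRingCat.of T)).presheaf.stalk (closedPoint T))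
      (closedPoint T).asIdeal :=
    StructureSheaf.IsLocalization.to_stalk T (closedPoint T)
  have hne : (closedPoint T).asIdeal ≠ ⊥ := IsDiscreteValuationRing.not_a_field T
  exact IsLocalization.AtPrime.isDiscreteValuationRing_of_dedekind_domain T hne _

/-- **Theorem D**: let `f` be locally of finite type, `w` a maximal point of the fibre over `y` at
which the fibre is geometrically reduced and `f` is universally open. Then any base change of `f`
to the spectrum of a DVR is flat at the points over `w` and the closed point. -/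
theorem flat_stalkMap_snd_of_dvr {X Y : Scheme.{u}} (f : X ⟶ Y) [LocallyOfFiniteType f] (y : Y)
    (w : ↥(f.fiber y)) (hmax : ∀ w' : ↥(f.fiber y), w' ⤳ w → w' = w)
    (hred : FBase.IsGeomReducedAt (f.fiberToSpecResidueField y) w)
    (hopen : EGA43.IsUnivOpenAt f (f.fiberι y w))
    (T : Type u) [CommRing T] [IsDomain T] [IsDiscreteValuationRing T]
    (g₁ : Spec (CommRingCat.of T) ⟶ Y) (hg₁ : g₁ (closedPoint T) = y)
    (p₀ : ↥(pullback f g₁)) (hp1 : (pullback.fst f g₁) p₀ = f.fiberι y w)
    (hp2 : (pullback.snd f g₁) p₀ = closedPoint T) :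
    ((pullback.snd f g₁).stalkMap p₀).hom.Flat := by
  subst hg₁
  set fst := pullback.fst f g₁ with hfst
  set snd := pullback.snd f g₁ with hsnd
  have sq : IsPullback fst snd f g₁ := IsPullback.of_hasPullback f g₁
  obtain ⟨x', rfl⟩ : p₀ ∈ Set.range (snd.fiberι (closedPoint T)) := by
    rw [Scheme.Hom.range_fiberι]; exact hp2
  haveI : LocallyOfFiniteType snd := by rw [hsnd]; infer_instance
  have hdvr : ∀ t : Spec (CommRingCat.of T), t = (closedPoint T) →
      ∃ _ : IsDomain ((Spec (CommRingCat.of T)).presheaf.stalk t),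
        IsDiscreteValuationRing ((Spec (CommRingCat.of T)).presheaf.stalk t) := by
    rintro _ rfl
    exact dvr_stalk_closedPoint T
  obtain ⟨_, _⟩ := hdvr _ hp2
  have hfs : ∀ p : ↥(pullback f g₁), f (fst p) = g₁ (snd p) := by
    intro p
    rw [← Scheme.Hom.comp_apply, ← Scheme.Hom.comp_apply, sq.w]
  refine flat_stalkMap_of_dvr_base snd (snd.fiberι (closedPoint T) x') ?_ ?_
  · -- reducedness of the fibre
    rw [Ideal.isRadical_iff_quotient_reduced]
    have e1 := quotientEquivStalkFiber snd (closedPoint T) x'
    suffices hR : IsReduced ((snd.fiber (closedPoint T)).presheaf.stalk x') from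
      isReduced_of_injective e1.toRingHom e1.injective
    let K : Type u := (Spec (CommRingCat.of T)).residueField (closedPoint T)
    letI algK : Algebra (IsLocalRing.ResidueField (Y.presheaf.stalk (g₁ (closedPoint T)))) K :=
      (g₁.residueFieldMap (closedPoint T)).hom.toAlgebra
    set φ := f.fiberToSpecResidueField (g₁ (closedPoint T)) with hφ
    have hsq := isPullback_fiberToSpecResidueField_of_isPullback sq (closedPoint T)
    have hbc : IsPullback (FBase.bcπ φ K) (FBase.bcStr φ K) φ
        (Spec.map (g₁.residueFieldMap (closedPoint T))) := IsPullback.of_hasPullback _ _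
    let e : snd.fiber (closedPoint T) ≅ FBase.bc φ K := hsq.isoIsPullback _ _ hbc
    have he1 : e.hom ≫ FBase.bcπ φ K = _ := hsq.isoIsPullback_hom_fst _ _ hbc
    have hm : pullback.map snd ((Spec (CommRingCat.of T)).fromSpecResidueField (closedPoint T)) f
        (Y.fromSpecResidueField (g₁ (closedPoint T)))
        fst (Spec.map (g₁.residueFieldMap (closedPoint T))) g₁ sq.w.symm (by simp) ≫ f.fiberι (g₁ (closedPoint T)) =
        snd.fiberι (closedPoint T) ≫ fst := by
      simp only [Scheme.Hom.fiberι]
      exact pullback.lift_fst _ _ _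
    have hcomp : e.hom ≫ FBase.bcπ φ K ≫ f.fiberι (g₁ (closedPoint T)) = snd.fiberι (closedPoint T) ≫ fst := by
      rw [← Category.assoc, he1]
      exact hm
    have hw : (FBase.bcπ φ K) (e.hom x') = w := by
      apply (f.fiberι (g₁ (closedPoint T))).isEmbedding.injective
      rw [← hp1, ← Scheme.Hom.comp_apply, ← Scheme.Hom.comp_apply, ← Scheme.Hom.comp_apply]
      rw [hcomp]
    have hR' := hred K (e.hom x') hw
    have e2 := (asIso (e.hom.stalkMap x')).commRingCatIsoToRingEquiv
    exact isReduced_of_injective e2.symm.toRingHom e2.symm.injective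
  · intro p₁ hp₁ he η hη
    have h1 : fst p₁ ⤳ f.fiberι (g₁ (closedPoint T)) w := by
      rw [← hp1]; exact hp₁.map fst.continuous
    have h2 : f (fst p₁) = g₁ (closedPoint T) := by
      rw [hfs, he]
      exact congrArg _ hp2
    obtain ⟨w', hw'⟩ : fst p₁ ∈ Set.range (f.fiberι (g₁ (closedPoint T))) := by
      rw [Scheme.Hom.range_fiberι]; exact h2
    have h3 : w' ⤳ w := by
      refine ((f.fiberι (g₁ (closedPoint T))).isEmbedding.toIsInducing.specializes_iff).mp ?_
      rw [hw']
      exact h1
    have h4 : fst p₁ = f.fiberι (g₁ (closedPoint T)) w := by rw [← hw', hmax w' h3]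
    have hop := hopen _ g₁ p₁ h4
    exact (Groth.Agent.S3404.result snd p₁).1 hop η (he ▸ hη)

end Groth.Agent.H17.Flat
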