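import Mathlib
import Groth.Agent.H6.UnivOpenDVR
import Groth.Agent.H17.Flat.DVRScheme

set_option autoImplicit false
set_option linter.unusedSectionVars false
set_option linter.style.haveILetI false
set_option linter.overlappingInstances false
universe u
open scoped TensorProduct
open CategoryTheory CategoryTheory.Limits AlgebraicGeometry Topology TopologicalSpace IsLocalRing

namespace Groth.Agent.H17.Flat

/-- base change of an open chart of a morphism is an open subscheme of the base change -/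
theorem exists_openImmersion_pullback {X Y X₁ Y₁ Y' P₁ : Scheme.{u}} (f : X ⟶ Y) (f₁ : X₁ ⟶ Y₁)
    (i : X₁ ⟶ X) [IsOpenImmersion i] (j : Y₁ ⟶ Y) [Mono j] (hc : f₁ ≫ j = i ≫ f)
    (g : Y' ⟶ Y₁) (fst₁ : P₁ ⟶ X₁) (snd₁ : P₁ ⟶ Y') (sq : IsPullback fst₁ snd₁ f₁ g) :
    ∃ k : P₁ ⟶ pullback f (g ≫ j), IsOpenImmersion k ∧
      k ≫ pullback.fst f (g ≫ j) = fst₁ ≫ i ∧ k ≫ pullback.snd f (g ≫ j) = snd₁ := by
  let k : P₁ ⟶ pullback f (g ≫ j) :=
    pullback.lift (fst₁ ≫ i) snd₁ (by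
      rw [Category.assoc, ← hc, ← Category.assoc, sq.w, Category.assoc])
  have hk1 : k ≫ pullback.fst f (g ≫ j) = fst₁ ≫ i := pullback.lift_fst _ _ _
  have hk2 : k ≫ pullback.snd f (g ≫ j) = snd₁ := pullback.lift_snd _ _ _
  have sA : IsPullback (pullback.snd f (g ≫ j)) (pullback.fst f (g ≫ j)) (g ≫ j) f :=
    (IsPullback.of_hasPullback f (g ≫ j)).flip
  have sBig : IsPullback snd₁ fst₁ (g ≫ j) (f₁ ≫ j) :=
    (Groth.Agent.H6.UnivOpenDVR.isPullback_comp_mono j sq).flip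
  have sB : IsPullback k fst₁ (pullback.fst f (g ≫ j)) i := by
    apply IsPullback.of_right _ hk1 sA
    rw [hk2, ← hc]
    exact sBig
  haveI : IsOpenImmersion k :=
    MorphismProperty.of_isPullback (P := @IsOpenImmersion) sB.flip inferInstance
  exact ⟨k, inferInstance, hk1, hk2⟩

/-- flatness of a localization from flatness of the stalk map of `Spec` -/
theorem flat_localization_of_flat_stalkMap_spec (T C : Type u) [CommRing T] [CommRing C]
    [Algebra T C] (𝔓 : Ideal C) [𝔓.IsPrime]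
    (h : ((Spec.map (CommRingCat.ofHom (algebraMap T C))).stalkMap
      (⟨𝔓, inferInstance⟩ : PrimeSpectrum C)).hom.Flat) :
    Module.Flat T (Localization.AtPrime 𝔓) := by
  let pt : PrimeSpectrum C := ⟨𝔓, inferInstance⟩
  have h2 := (RingHom.Flat.respectsIso.arrow_mk_iso_iff
    (Scheme.arrowStalkMapSpecIso (CommRingCat.ofHom (algebraMap T C)) pt)).mp h
  let 𝔭 : Ideal T := (pt.comap (algebraMap T C)).asIdeal
  let ρ : Localization.AtPrime 𝔭 →+* Localization.AtPrime 𝔓 :=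
    Localization.localRingHom 𝔭 𝔓 (algebraMap T C) rfl
  have hρ : ρ.Flat := h2
  letI : Algebra (Localization.AtPrime 𝔭) (Localization.AtPrime 𝔓) := ρ.toAlgebra
  haveI : IsScalarTower T (Localization.AtPrime 𝔭) (Localization.AtPrime 𝔓) := by
    refine IsScalarTower.of_algebraMap_eq fun t => ?_
    change _ = ρ (algebraMap T _ t)
    rw [Localization.localRingHom_to_map, ← IsScalarTower.algebraMap_apply]
  haveI : Module.Flat (Localization.AtPrime 𝔭) (Localization.AtPrime 𝔓) := hρ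
  haveI : Module.Flat T (Localization.AtPrime 𝔭) := IsLocalization.flat _ 𝔭.primeCompl
  exact Module.Flat.trans T (Localization.AtPrime 𝔭) (Localization.AtPrime 𝔓)

/-- **(R4)**: the DVR-flatness hypothesis on an affine chart, from Theorem D. -/
theorem dvrFlat_chart {X Y : Scheme.{u}} (f : X ⟶ Y) [LocallyOfFiniteType f] (y : Y)
    (w : ↥(f.fiber y)) (hmax : ∀ w' : ↥(f.fiber y), w' ⤳ w → w' = w)
    (hred : FBase.IsGeomReducedAt (f.fiberToSpecResidueField y) w)
    (hopen : EGA43.IsUnivOpenAt f (f.fiberι y w))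
    (V : Y.Opens) (hV : IsAffineOpen V) (U : X.Opens) (hU : IsAffineOpen U) (hUV : U ≤ f ⁻¹ᵁ V)
    (hzU : f.fiberι y w ∈ U) :
    letI := (f.appLE V U hUV).hom.toAlgebra
    ∀ (T : Type u) [CommRing T] [IsDomain T] [IsDiscreteValuationRing T] [Algebra Γ(Y, V) T]
      (𝔓 : Ideal (T ⊗[Γ(Y, V)] Γ(X, U))) [𝔓.IsPrime],
      𝔓.comap (Algebra.TensorProduct.includeRight : Γ(X, U) →ₐ[Γ(Y, V)] T ⊗[Γ(Y, V)] Γ(X, U)) =
        (hU.primeIdealOf ⟨f.fiberι y w, hzU⟩).asIdeal →
      𝔓.comap (Algebra.TensorProduct.includeLeft : T →ₐ[Γ(Y, V)] T ⊗[Γ(Y, V)] Γ(X, U)) =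
        maximalIdeal T →
      Module.Flat T (Localization.AtPrime 𝔓) := by
  letI := (f.appLE V U hUV).hom.toAlgebra
  intro T _ _ _ _ 𝔓 _ h1 h2
  let R₀ := Γ(Y, V)
  let S₀ := Γ(X, U)
  let f₁ : Spec S₀ ⟶ Spec R₀ := Spec.map (f.appLE V U hUV)
  have hc : f₁ ≫ hV.fromSpec = hU.fromSpec ≫ f := hV.SpecMap_appLE_fromSpec f hU hUV
  let g₁' : Spec (CommRingCat.of T) ⟶ Spec R₀ := Spec.map (CommRingCat.ofHom (algebraMap R₀ T))
  have sq := Groth.Agent.H6.UnivOpenDVR.sqTensor R₀ T S₀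
  let g₁ : Spec (CommRingCat.of T) ⟶ Y := g₁' ≫ hV.fromSpec
  obtain ⟨k, hko, hk1, hk2⟩ : ∃ k : Spec (CommRingCat.of (T ⊗[R₀] S₀)) ⟶ pullback f g₁,
      IsOpenImmersion k ∧
      k ≫ pullback.fst f g₁ = Spec.map (CommRingCat.ofHom (S := T ⊗[R₀] S₀)
        Algebra.TensorProduct.includeRight.toRingHom) ≫ hU.fromSpec ∧
      k ≫ pullback.snd f g₁ = Spec.map (CommRingCat.ofHom (S := T ⊗[R₀] S₀)
        Algebra.TensorProduct.includeLeftRingHom) :=
    exists_openImmersion_pullback f f₁ hU.fromSpec hV.fromSpec hc g₁' _ _ sq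
  let pt : Spec (CommRingCat.of (T ⊗[R₀] S₀)) := (⟨𝔓, inferInstance⟩ : PrimeSpectrum _)
  have hfst : (pullback.fst f g₁) (k pt) = f.fiberι y w := by
    rw [← Scheme.Hom.comp_apply, hk1, Scheme.Hom.comp_apply]
    have : (Spec.map (CommRingCat.ofHom (S := T ⊗[R₀] S₀)
        Algebra.TensorProduct.includeRight.toRingHom)) pt = hU.primeIdealOf ⟨f.fiberι y w, hzU⟩ :=
      PrimeSpectrum.ext h1
    rw [this, hU.fromSpec_primeIdealOf]
  have hsnd : (pullback.snd f g₁) (k pt) = closedPoint T := by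
    rw [← Scheme.Hom.comp_apply, hk2]
    exact PrimeSpectrum.ext h2
  have hfz : f (f.fiberι y w) = y := (f.range_fiberι y).le ⟨w, rfl⟩
  have hg₁y : g₁ (closedPoint T) = y := by
    rw [← hsnd, ← Scheme.Hom.comp_apply, ← pullback.condition, Scheme.Hom.comp_apply, hfst, hfz]
  have hD := flat_stalkMap_snd_of_dvr f y w hmax hred hopen T g₁ hg₁y (k pt) hfst hsnd
  -- transfer along the open immersion
  have h3 : ((k ≫ pullback.snd f g₁).stalkMap pt).hom.Flat := by
    rw [Scheme.Hom.stalkMap_comp]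
    refine RingHom.Flat.comp hD ?_
    exact RingHom.Flat.of_bijective
      ((ConcreteCategory.isIso_iff_bijective (k.stalkMap pt)).mp inferInstance)
  rw [hk2] at h3
  exact flat_localization_of_flat_stalkMap_spec T (T ⊗[R₀] S₀) 𝔓 h3

end Groth.Agent.H17.Flat
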