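import Mathlib
import Groth.Agent.H22.DVRDom

set_option autoImplicit false
universe u
open scoped TensorProduct
open IsLocalRing Function

namespace Groth.Agent.H17.Flat

/-- **Lemma K**: a ring map out of a Noetherian local ring `C` whose kernel is contained in `πC`,
`π` in the maximal ideal acting injectively on the target, is injective. -/
theorem ker_eq_bot_of_le_span {C D : Type*} [CommRing C] [IsLocalRing C] [IsNoetherianRing C]
    [CommRing D] (ψ : C →+* D) (π : C) (hπ : π ∈ maximalIdeal C)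
    (hreg : ∀ d : D, ψ π * d = 0 → d = 0) (hker : RingHom.ker ψ ≤ Ideal.span {π}) :
    RingHom.ker ψ = ⊥ := by
  refine Submodule.eq_bot_of_le_smul_of_le_jacobson_bot (Ideal.span {π}) (RingHom.ker ψ)
    (IsNoetherian.noetherian _) ?_ ?_
  · intro x hx
    obtain ⟨b, rfl⟩ := Ideal.mem_span_singleton'.mp (hker hx)
    have hb : b ∈ RingHom.ker ψ := by
      rw [RingHom.mem_ker] at hx ⊢
      rw [map_mul, mul_comm] at hx
      exact hreg _ hx
    rw [mul_comm]
    exact Submodule.smul_mem_smul (Ideal.mem_span_singleton_self π) hb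
  · rw [IsLocalRing.jacobson_eq_maximalIdeal ⊥ bot_ne_top, Ideal.span_singleton_le_iff_mem]
    exact hπ

/-- A DVR through a chain of primes `𝔭 < q` of a Noetherian ring: a ring map to a DVR with kernel
`𝔭` and centre `q`. -/
theorem exists_dvr_of_lt (E : Type u) [CommRing E] [IsNoetherianRing E] (𝔭 q : Ideal E)
    [𝔭.IsPrime] [q.IsPrime] (hlt : 𝔭 < q) :
    ∃ (T : Type u) (_ : CommRing T) (_ : IsDomain T) (_ : IsDiscreteValuationRing T)
      (σ₀ : E →+* T), RingHom.ker σ₀ = 𝔭 ∧ (maximalIdeal T).comap σ₀ = q := by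
  classical
  let B := E ⧸ 𝔭
  let L := FractionRing B
  let 𝔫 : Ideal B := q.map (Ideal.Quotient.mk 𝔭)
  have hker : RingHom.ker (Ideal.Quotient.mk 𝔭) ≤ q := by rw [Ideal.mk_ker]; exact hlt.le
  have : 𝔫.IsPrime := Ideal.map_isPrime_of_surjective Ideal.Quotient.mk_surjective hker
  have hcomap : 𝔫.comap (Ideal.Quotient.mk 𝔭) = q := by
    rw [Ideal.comap_map_of_surjective _ Ideal.Quotient.mk_surjective, sup_eq_left]
    exact hker
  have h0 : 𝔫 ≠ ⊥ := by
    intro h
    obtain ⟨x, hxq, hxp⟩ := Set.exists_of_ssubset hlt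
    have : Ideal.Quotient.mk 𝔭 x ∈ 𝔫 := Ideal.mem_map_of_mem _ hxq
    rw [h, Ideal.mem_bot, Ideal.Quotient.eq_zero_iff_mem] at this
    exact hxp this
  obtain ⟨R, hR, h1, h2⟩ := Groth.Agent.H22.DVRDom.exists_dvr_of_prime' (B := B) 𝔫 h0 (L := L)
    (∅ : Finset L) (by
      rw [Finset.coe_empty, Set.union_empty, eq_top_iff]
      intro x _
      obtain ⟨a, b, hb, rfl⟩ := IsFractionRing.div_surjective (A := B) x
      exact div_mem (Subfield.subset_closure ⟨a, rfl⟩) (Subfield.subset_closure ⟨b, rfl⟩))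
  let σ₁ : B →+* R := (algebraMap B L).codRestrict R.toSubring h1
  refine ⟨R, inferInstance, inferInstance, hR, σ₁.comp (Ideal.Quotient.mk 𝔭), ?_, ?_⟩
  · ext x
    rw [RingHom.mem_ker, RingHom.comp_apply]
    constructor
    · intro h
      have h3 : algebraMap B L (Ideal.Quotient.mk 𝔭 x) = 0 := congrArg Subtype.val h
      rw [map_eq_zero_iff _ (IsFractionRing.injective B L)] at h3
      exact Ideal.Quotient.eq_zero_iff_mem.mp h3
    · intro h
      rw [Ideal.Quotient.eq_zero_iff_mem.mpr h, map_zero]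
  · ext x
    rw [Ideal.mem_comap, RingHom.comp_apply, ← hcomap, Ideal.mem_comap, h2]
    exact (ValuationSubring.valuation_lt_one_iff R (σ₁ (Ideal.Quotient.mk 𝔭 x)))

end Groth.Agent.H17.Flat
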