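import Mathlib
import Groth.Agent.H17.Flat.LemK
import Groth.Agent.H47.SmoothReduced

set_option autoImplicit false
set_option linter.unusedSectionVars false
set_option linter.style.haveILetI false
universe u
open scoped TensorProduct
open IsLocalRing Function

namespace Groth.Agent.H17.Flat

theorem map_under_eq_maximalIdeal_of_etale (R' E : Type*) [CommRing R'] [CommRing E]
    [Algebra R' E] [Algebra.Etale R' E] (q : Ideal E) [q.IsPrime] :
    (q.under R').map (algebraMap R' (Localization.AtPrime q)) =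
      maximalIdeal (Localization.AtPrime q) := by
  haveI : q.LiesOver (q.under R') := ⟨rfl⟩
  letI := Localization.AtPrime.algebraOfLiesOver (q.under R') q
  haveI : Algebra.IsUnramifiedAt R' q :=
    (Algebra.formallyUnramified_iff_forall.mp inferInstance) ⟨q, inferInstance⟩
  exact ((Algebra.isUnramifiedAt_iff_map_eq R' (q.under R') q).mp inferInstance).2

section core

variable {R₀ : Type u} [CommRing R₀] [IsNoetherianRing R₀]
  (E S' : Type u) [CommRing E] [CommRing S'] [Algebra R₀ E] [Algebra R₀ S']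
  [Algebra.FiniteType R₀ E]
  (φ : E →ₐ[R₀] S') (hφ : Function.Surjective φ) (Q' : Ideal S') [Q'.IsPrime]

include hφ in
/-- the DVR step: for a prime `𝔭 < q` the kernel of `φ` lies in `𝔭` -/
theorem ker_le_of_prime_lt
    (hPE : ∀ x ∈ RingHom.ker φ, ∃ s : E, s ∉ Q'.comap φ ∧
      s * x ∈ (Q'.under R₀).map (algebraMap R₀ E))
    (hR4 : ∀ (T : Type u) [CommRing T] [IsDomain T] [IsDiscreteValuationRing T] [Algebra R₀ T]
      (𝔓 : Ideal (T ⊗[R₀] S')) [𝔓.IsPrime],
      𝔓.comap (Algebra.TensorProduct.includeRight : S' →ₐ[R₀] T ⊗[R₀] S') = Q' →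
      𝔓.comap (Algebra.TensorProduct.includeLeft : T →ₐ[R₀] T ⊗[R₀] S') = maximalIdeal T →
      Module.Flat T (Localization.AtPrime 𝔓))
    (𝔭 : Ideal E) [𝔭.IsPrime] (hlt : 𝔭 < Q'.comap φ) : RingHom.ker φ ≤ 𝔭 := by
  haveI : IsNoetherianRing E := Algebra.FiniteType.isNoetherianRing R₀ E
  set q := Q'.comap φ with hq
  obtain ⟨T, _, _, _, σ₀, hσker, hσq⟩ := exists_dvr_of_lt E 𝔭 q hlt
  letI : Algebra E T := σ₀.toAlgebra
  letI : Algebra R₀ T := (σ₀.comp (algebraMap R₀ E)).toAlgebra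
  haveI : IsScalarTower R₀ E T := IsScalarTower.of_algebraMap_eq' rfl
  let σ₀' : E →ₐ[R₀] T := IsScalarTower.toAlgHom R₀ E T
  have hσ₀' : ∀ e, σ₀' e = σ₀ e := fun e => rfl
  let σ : T ⊗[R₀] E →ₐ[T] T :=
    Algebra.TensorProduct.lift (Algebra.ofId T T) σ₀' (fun _ _ => Commute.all _ _)
  have hσt : ∀ (t : T) (e : E), σ (t ⊗ₜ e) = t * σ₀ e := by
    intro t e
    simp [σ, hσ₀']
  let p₀ : Ideal (T ⊗[R₀] E) := (maximalIdeal T).comap σ.toRingHom
  haveI : p₀.IsPrime := Ideal.comap_isPrime _ _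
  have hp₀mem : ∀ a, a ∈ p₀ ↔ σ a ∈ maximalIdeal T := fun a => Iff.rfl
  let Φ : T ⊗[R₀] E →ₐ[R₀] T ⊗[R₀] S' := Algebra.TensorProduct.map (AlgHom.id R₀ T) φ
  have hΦt : ∀ (t : T) (e : E), Φ (t ⊗ₜ e) = t ⊗ₜ φ e := fun t e => rfl
  have hΦsurj : Surjective Φ :=
    Algebra.TensorProduct.map_surjective (AlgHom.id R₀ T) φ surjective_id hφ
  have hΦker : RingHom.ker Φ = (RingHom.ker φ).map
      (Algebra.TensorProduct.includeRight : E →ₐ[R₀] T ⊗[R₀] E) :=
    Algebra.TensorProduct.lTensor_ker φ hφ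
  have hkerq : RingHom.ker φ ≤ q := by
    intro y hy
    rw [hq, Ideal.mem_comap, (RingHom.mem_ker).mp hy]
    exact Q'.zero_mem
  have hσ₀q : ∀ e : E, σ₀ e ∈ maximalIdeal T ↔ e ∈ q := by
    intro e
    rw [← hσq, Ideal.mem_comap]
  have hkerp₀ : RingHom.ker Φ ≤ p₀ := by
    rw [hΦker, Ideal.map_le_iff_le_comap]
    intro y hy
    rw [Ideal.mem_comap, hp₀mem]
    change σ ((1 : T) ⊗ₜ y) ∈ _
    rw [hσt, one_mul, hσ₀q]
    exact hkerq hy
  let 𝔓 : Ideal (T ⊗[R₀] S') := p₀.map Φ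
  haveI : 𝔓.IsPrime := Ideal.map_isPrime_of_surjective hΦsurj hkerp₀
  have h𝔓comap : 𝔓.comap Φ = p₀ := by
    rw [Ideal.comap_map_of_surjective _ hΦsurj, sup_eq_left]
    exact hkerp₀
  have h1 : 𝔓.comap (Algebra.TensorProduct.includeRight : S' →ₐ[R₀] T ⊗[R₀] S') = Q' := by
    ext s'
    obtain ⟨e, rfl⟩ := hφ s'
    rw [Ideal.mem_comap]
    change Φ ((1 : T) ⊗ₜ e) ∈ 𝔓 ↔ _
    rw [← Ideal.mem_comap, h𝔓comap, hp₀mem, hσt, one_mul, hσ₀q, hq, Ideal.mem_comap]
  have h2 : 𝔓.comap (Algebra.TensorProduct.includeLeft : T →ₐ[R₀] T ⊗[R₀] S') =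
      maximalIdeal T := by
    ext t
    rw [Ideal.mem_comap]
    have h3 : (Algebra.TensorProduct.includeLeft : T →ₐ[R₀] T ⊗[R₀] S') t = Φ (t ⊗ₜ (1 : E)) := by
      rw [hΦt, map_one]; rfl
    rw [h3, ← Ideal.mem_comap, h𝔓comap, hp₀mem, hσt, map_one, mul_one]
  have hflat := hR4 T 𝔓 h1 h2
  let C := Localization.AtPrime p₀
  let D := Localization.AtPrime 𝔓
  let ψ : C →+* D := Localization.localRingHom p₀ 𝔓 Φ.toRingHom h𝔓comap.symm
  have hψmap : ∀ a : T ⊗[R₀] E, ψ (algebraMap _ C a) = algebraMap _ D (Φ a) := fun a =>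
    Localization.localRingHom_to_map p₀ 𝔓 Φ.toRingHom h𝔓comap.symm a
  haveI : Algebra.FiniteType T (T ⊗[R₀] E) := inferInstance
  haveI : IsNoetherianRing (T ⊗[R₀] E) := Algebra.FiniteType.isNoetherianRing T _
  haveI : IsNoetherianRing C := IsLocalization.isNoetherianRing p₀.primeCompl C inferInstance
  obtain ⟨ϖ, hϖ⟩ := IsDiscreteValuationRing.exists_irreducible T
  have hmax : maximalIdeal T = Ideal.span {ϖ} := hϖ.maximalIdeal_eq
  let π₀ : T ⊗[R₀] E := ϖ ⊗ₜ 1
  let π : C := algebraMap _ C π₀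
  have hπ₀ : π₀ ∈ p₀ := by
    rw [hp₀mem, hσt, map_one, mul_one, hmax]
    exact Ideal.mem_span_singleton_self ϖ
  have hπm : π ∈ maximalIdeal C := by
    rw [← Localization.AtPrime.map_eq_maximalIdeal]
    exact Ideal.mem_map_of_mem _ hπ₀
  have hψπ : ψ π = algebraMap T D ϖ := by
    rw [hψmap, hΦt, map_one, IsScalarTower.algebraMap_apply T (T ⊗[R₀] S') D]
    rfl
  have hreg : ∀ d : D, ψ π * d = 0 → d = 0 := by
    intro d hd
    rw [hψπ, ← Algebra.smul_def] at hd
    have htor := (IsDedekindDomain.flat_iff_torsion_eq_bot (R := T) (M := D)).mp hflat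
    have hdt : d ∈ Submodule.torsion T D :=
      (Submodule.mem_torsion_iff d).mpr ⟨⟨ϖ, mem_nonZeroDivisors_of_ne_zero hϖ.ne_zero⟩, hd⟩
    rw [htor] at hdt
    exact hdt
  -- elements of `P E` go into `π₀ (T ⊗ E)`
  have hP1 : ∀ e ∈ (Q'.under R₀).map (algebraMap R₀ E),
      ((1 : T) ⊗ₜ[R₀] e) ∈ Ideal.span {π₀} := by
    intro e he
    refine Submodule.span_induction (p := fun e _ => ((1 : T) ⊗ₜ[R₀] e) ∈ Ideal.span {π₀})
      ?_ ?_ ?_ ?_ he
    · rintro _ ⟨r, hr, rfl⟩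
      have h3 : ((1 : T) ⊗ₜ[R₀] (algebraMap R₀ E r)) = (algebraMap R₀ T r) ⊗ₜ[R₀] (1 : E) := by
        rw [Algebra.algebraMap_eq_smul_one, Algebra.algebraMap_eq_smul_one,
          TensorProduct.smul_tmul]
      have h4 : algebraMap R₀ T r ∈ maximalIdeal T := by
        change σ₀ (algebraMap R₀ E r) ∈ _
        rw [hσ₀q, hq, Ideal.mem_comap, AlgHom.commutes]
        exact hr
      rw [hmax] at h4
      obtain ⟨t', ht'⟩ := Ideal.mem_span_singleton'.mp h4
      rw [h3, ← ht']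
      have h5 : ((t' * ϖ) ⊗ₜ[R₀] (1 : E)) = (t' ⊗ₜ[R₀] (1 : E)) * π₀ := by
        rw [Algebra.TensorProduct.tmul_mul_tmul, mul_one]
      rw [h5]
      exact Ideal.mul_mem_left _ _ (Ideal.mem_span_singleton_self π₀)
    · rw [TensorProduct.tmul_zero]; exact Ideal.zero_mem _
    · intro a b _ _ ha hb
      rw [TensorProduct.tmul_add]; exact Ideal.add_mem _ ha hb
    · intro a b _ hb
      have h5 : ((1 : T) ⊗ₜ[R₀] (a • b)) = ((1 : T) ⊗ₜ[R₀] a) * ((1 : T) ⊗ₜ[R₀] b) := by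
        rw [Algebra.TensorProduct.tmul_mul_tmul, mul_one, smul_eq_mul]
      rw [h5]
      exact Ideal.mul_mem_left _ _ hb
  have hnotmem : ∀ s : E, s ∉ q → ((1 : T) ⊗ₜ[R₀] s) ∉ p₀ := by
    intro s hs
    rw [hp₀mem, hσt, one_mul, hσ₀q]
    exact hs
  -- the image of `ker φ` in `C` lies in `π C`
  have hI1 : ∀ y ∈ RingHom.ker φ, algebraMap _ C ((1 : T) ⊗ₜ[R₀] y) ∈ Ideal.span {π} := by
    intro y hy
    obtain ⟨s, hs, hsy⟩ := hPE y hy
    have hu : IsUnit (algebraMap _ C ((1 : T) ⊗ₜ[R₀] s)) :=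
      IsLocalization.map_units C (⟨_, hnotmem s hs⟩ : p₀.primeCompl)
    have h6 : algebraMap _ C ((1 : T) ⊗ₜ[R₀] (s * y)) ∈ Ideal.span {π} := by
      have := Ideal.mem_map_of_mem (algebraMap (T ⊗[R₀] E) C) (hP1 _ hsy)
      rwa [Ideal.map_span, Set.image_singleton] at this
    have h7 : ((1 : T) ⊗ₜ[R₀] (s * y)) = ((1 : T) ⊗ₜ[R₀] s) * ((1 : T) ⊗ₜ[R₀] y) := by
      rw [Algebra.TensorProduct.tmul_mul_tmul, mul_one]
    rw [h7, map_mul] at h6
    exact (Ideal.unit_mul_mem_iff_mem _ hu).mp h6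
  have hI2 : ∀ b ∈ RingHom.ker Φ, algebraMap _ C b ∈ Ideal.span {π} := by
    intro b hb
    rw [hΦker] at hb
    have hle : (RingHom.ker φ).map
        (Algebra.TensorProduct.includeRight : E →ₐ[R₀] T ⊗[R₀] E) ≤
        (Ideal.span {π}).comap (algebraMap (T ⊗[R₀] E) C) := by
      rw [Ideal.map_le_iff_le_comap]
      intro y hy
      exact hI1 y hy
    exact hle hb
  have hkerle : RingHom.ker ψ ≤ Ideal.span {π} := by
    intro x hx
    obtain ⟨a, t, rfl⟩ := IsLocalization.exists_mk'_eq p₀.primeCompl x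
    have hx' : ψ (algebraMap _ C a) = 0 := by
      have h8 : algebraMap _ C a = IsLocalization.mk' C a t * algebraMap _ C (t : T ⊗[R₀] E) := by
        rw [IsLocalization.mk'_spec]
      rw [h8, map_mul, (RingHom.mem_ker).mp hx, zero_mul]
    rw [hψmap, IsLocalization.map_eq_zero_iff 𝔓.primeCompl] at hx'
    obtain ⟨u, hu⟩ := hx'
    obtain ⟨v, hv⟩ := hΦsurj u.1
    have hvp : v ∉ p₀ := by
      intro hvp
      apply u.2
      rw [← hv]
      exact Ideal.mem_map_of_mem _ hvp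
    have h9 : v * a ∈ RingHom.ker Φ := by
      rw [RingHom.mem_ker, map_mul, hv]
      exact hu
    have h10 := hI2 _ h9
    rw [map_mul] at h10
    have hvu : IsUnit (algebraMap _ C v) := IsLocalization.map_units C (⟨v, hvp⟩ : p₀.primeCompl)
    have h11 := (Ideal.unit_mul_mem_iff_mem _ hvu).mp h10
    have htu : IsUnit (algebraMap _ C (t : T ⊗[R₀] E)) := IsLocalization.map_units C t
    refine (Ideal.mul_unit_mem_iff_mem _ htu).mp ?_
    rw [IsLocalization.mk'_spec]
    exact h11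
  have hker0 := ker_eq_bot_of_le_span ψ π hπm hreg hkerle
  intro y hy
  have h13 : ψ (algebraMap _ C ((1 : T) ⊗ₜ[R₀] y)) = 0 := by
    rw [hψmap, hΦt, (RingHom.mem_ker).mp hy, TensorProduct.tmul_zero, map_zero]
  have h14 : algebraMap _ C ((1 : T) ⊗ₜ[R₀] y) = 0 := by
    have : algebraMap _ C ((1 : T) ⊗ₜ[R₀] y) ∈ RingHom.ker ψ := h13
    rw [hker0] at this
    exact this
  rw [IsLocalization.map_eq_zero_iff p₀.primeCompl] at h14
  obtain ⟨v, hv⟩ := h14
  have h15 : σ v.1 * σ₀ y = 0 := by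
    have := congrArg σ hv
    rwa [map_mul, hσt, one_mul, map_zero] at this
  have h16 : σ v.1 ≠ 0 := by
    intro h0
    apply v.2
    change σ v.1 ∈ maximalIdeal T
    rw [h0]
    exact Ideal.zero_mem _
  rw [← hσker, RingHom.mem_ker]
  exact (mul_eq_zero.mp h15).resolve_left h16

end core

/-- **Part 2**: a localization `B` of a quotient `S'` of an étale algebra `E` over a polynomial
ring over a reduced Noetherian ring `R₀`, at a prime over the generic point of the fibre of the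
affine space, is flat over `R₀` as soon as all its base changes to discrete valuation rings are
flat. -/
theorem flat_of_etale_surjection
    {R₀ : Type u} [CommRing R₀] [IsNoetherianRing R₀] [IsReduced R₀]
    {n : ℕ} (E S' : Type u) [CommRing E] [CommRing S']
    [Algebra R₀ E] [Algebra (MvPolynomial (Fin n) R₀) E]
    [IsScalarTower R₀ (MvPolynomial (Fin n) R₀) E] [Algebra.Etale (MvPolynomial (Fin n) R₀) E]
    [Algebra R₀ S'] (φ : E →ₐ[R₀] S') (hφ : Function.Surjective φ)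
    (Q' : Ideal S') [Q'.IsPrime]
    (hgen : (Q'.comap φ).under (MvPolynomial (Fin n) R₀) =
      (Q'.under R₀).map (algebraMap R₀ (MvPolynomial (Fin n) R₀)))
    (hR4 : ∀ (T : Type u) [CommRing T] [IsDomain T] [IsDiscreteValuationRing T] [Algebra R₀ T]
      (𝔓 : Ideal (T ⊗[R₀] S')) [𝔓.IsPrime],
      𝔓.comap (Algebra.TensorProduct.includeRight : S' →ₐ[R₀] T ⊗[R₀] S') = Q' →
      𝔓.comap (Algebra.TensorProduct.includeLeft : T →ₐ[R₀] T ⊗[R₀] S') = maximalIdeal T →
      Module.Flat T (Localization.AtPrime 𝔓))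
    (B : Type u) [CommRing B] [Algebra S' B] [Algebra R₀ B] [IsScalarTower R₀ S' B]
    [IsLocalization.AtPrime B Q'] : Module.Flat R₀ B := by
  let R' := MvPolynomial (Fin n) R₀
  haveI : Algebra.FiniteType R₀ E :=
    Algebra.FiniteType.trans (inferInstance : Algebra.FiniteType R₀ R')
      (inferInstance : Algebra.FiniteType R' E)
  haveI : IsNoetherianRing E := Algebra.FiniteType.isNoetherianRing R₀ E
  set q := Q'.comap φ with hq
  haveI : q.IsPrime := Ideal.comap_isPrime _ _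
  let Eq := Localization.AtPrime q
  have hkerq : RingHom.ker φ ≤ q := by
    intro y hy
    rw [hq, Ideal.mem_comap, (RingHom.mem_ker).mp hy]
    exact Q'.zero_mem
  -- `ker φ ⊆ P E_q`
  have hPE : ∀ x ∈ RingHom.ker φ, ∃ s : E, s ∉ q ∧
      s * x ∈ (Q'.under R₀).map (algebraMap R₀ E) := by
    intro x hx
    have h1 : algebraMap E Eq x ∈ maximalIdeal Eq := by
      rw [← Localization.AtPrime.map_eq_maximalIdeal]
      exact Ideal.mem_map_of_mem _ (hkerq hx)
    rw [← map_under_eq_maximalIdeal_of_etale R' E q, hgen, Ideal.map_map,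
      ← IsScalarTower.algebraMap_eq, IsScalarTower.algebraMap_eq R₀ E Eq, ← Ideal.map_map,
      IsLocalization.mem_map_algebraMap_iff q.primeCompl] at h1
    obtain ⟨⟨a, m⟩, ham⟩ := h1
    rw [← map_mul, IsLocalization.eq_iff_exists q.primeCompl] at ham
    obtain ⟨c, hc⟩ := ham
    refine ⟨c.1 * m.1, q.primeCompl.mul_mem c.2 m.2, ?_⟩
    have : c.1 * m.1 * x = c.1 * a.1 := by rw [← hc]; ring
    rw [this]
    exact Ideal.mul_mem_left _ _ a.2
  -- `ker φ` lies in every prime below `q`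
  have hall : ∀ 𝔭 : Ideal E, 𝔭.IsPrime → 𝔭 ≤ q → RingHom.ker φ ≤ 𝔭 := by
    intro 𝔭 h𝔭 hle
    rcases hle.lt_or_eq with hlt | heq
    · exact ker_le_of_prime_lt E S' φ hφ Q' hPE hR4 𝔭 hlt
    · rw [heq]; exact hkerq
  haveI : IsReduced E := Groth.Agent.H47.isReduced_of_etale R' E
  haveI : IsReduced Eq := inferInstance
  have hzero : ∀ x ∈ RingHom.ker φ, ∃ s : E, s ∉ q ∧ s * x = 0 := by
    intro x hx
    have h1 : algebraMap E Eq x = 0 := by
      apply IsReduced.eq_zero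
      rw [← mem_nilradical, nilradical_eq_sInf, Ideal.mem_sInf]
      intro J hJ
      haveI : J.IsPrime := hJ
      have hJle : J.comap (algebraMap E Eq) ≤ q := by
        have h3 := Ideal.comap_mono (f := algebraMap E Eq) (IsLocalRing.le_maximalIdeal hJ.ne_top)
        exact h3.trans (Localization.AtPrime.under_maximalIdeal (I := q)).le
      exact hall _ (Ideal.comap_isPrime _ _) hJle hx
    rw [IsLocalization.map_eq_zero_iff q.primeCompl] at h1
    obtain ⟨s, hs⟩ := h1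
    exact ⟨s.1, s.2, hs⟩
  -- `B` is the localization of `E` at `q`
  letI : Algebra E B := ((algebraMap S' B).comp φ.toRingHom).toAlgebra
  have halg : ∀ e : E, algebraMap E B e = algebraMap S' B (φ e) := fun e => rfl
  haveI : IsScalarTower R₀ E B := by
    refine IsScalarTower.of_algebraMap_eq fun r => ?_
    rw [halg, AlgHom.commutes, ← IsScalarTower.algebraMap_apply]
  haveI : IsLocalization.AtPrime B q := by
    refine ⟨?_, ?_, ?_⟩
    · rintro ⟨s, hs⟩
      rw [halg]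
      exact IsLocalization.map_units B (⟨φ s, hs⟩ : Q'.primeCompl)
    · intro b
      obtain ⟨⟨x, m⟩, hxm⟩ := IsLocalization.surj Q'.primeCompl b
      obtain ⟨e, he⟩ := hφ x
      obtain ⟨e', he'⟩ := hφ m.1
      refine ⟨⟨e, ⟨e', ?_⟩⟩, ?_⟩
      · change φ e' ∉ Q'
        rw [he']; exact m.2
      · change b * algebraMap E B e' = algebraMap E B e
        rw [halg, halg, he, he']
        exact hxm
    · intro e₁ e₂ h
      rw [halg, halg, IsLocalization.eq_iff_exists Q'.primeCompl] at h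
      obtain ⟨c, hc⟩ := h
      obtain ⟨c', hc'⟩ := hφ c.1
      have hc'q : c' ∉ q := by
        change φ c' ∉ Q'
        rw [hc']; exact c.2
      have h2 : c' * (e₁ - e₂) ∈ RingHom.ker φ := by
        rw [RingHom.mem_ker, map_mul, map_sub, hc', mul_sub, hc, sub_self]
      obtain ⟨s, hs, hs0⟩ := hzero _ h2
      refine ⟨⟨s * c', q.primeCompl.mul_mem hs hc'q⟩, ?_⟩
      change s * c' * e₁ = s * c' * e₂
      have : s * c' * e₁ - s * c' * e₂ = s * (c' * (e₁ - e₂)) := by ring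
      rw [← sub_eq_zero, this, hs0]
  haveI : Module.Flat E B := IsLocalization.flat B q.primeCompl
  haveI : Module.Flat R₀ E := Module.Flat.trans R₀ R' E
  exact Module.Flat.trans R₀ E B

end Groth.Agent.H17.Flat
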