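import Mathlib
import Groth.Agent.H17.Flat.EtaleModel

set_option autoImplicit false
set_option linter.unusedSectionVars false
set_option linter.style.haveILetI false
universe u
open scoped TensorProduct
open IsLocalRing Function

namespace Groth.Agent.H17.Flat

/-- **Part 2, wrapper**: as `flat_of_etale_surjection`, starting from a standard étale surjection
onto `S₀[1/g]` and an arbitrary model `S'` of `S₀[1/g]`. -/
theorem flat_of_hasStandardEtaleSurjectionOn
    {R₀ S₀ : Type u} [CommRing R₀] [CommRing S₀] [IsNoetherianRing R₀] [IsReduced R₀]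
    [Algebra R₀ S₀] {n : ℕ} (τ : Fin n → S₀) (Q : Ideal S₀) [Q.IsPrime] (g : S₀)
    (hstd : letI := (MvPolynomial.aeval (R := R₀) τ).toRingHom.toAlgebra
      HasStandardEtaleSurjectionOn (MvPolynomial (Fin n) R₀) g)
    (hG1 : Q.comap (MvPolynomial.aeval (R := R₀) τ).toRingHom =
      (Q.under R₀).map (algebraMap R₀ (MvPolynomial (Fin n) R₀)))
    (S' : Type u) [CommRing S'] [Algebra S₀ S'] [Algebra R₀ S'] [IsScalarTower R₀ S₀ S']
    [IsLocalization.Away g S'] (Q' : Ideal S') [Q'.IsPrime]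
    (hQ' : Q'.comap (algebraMap S₀ S') = Q)
    (hR4 : ∀ (T : Type u) [CommRing T] [IsDomain T] [IsDiscreteValuationRing T] [Algebra R₀ T]
      (𝔓 : Ideal (T ⊗[R₀] S')) [𝔓.IsPrime],
      𝔓.comap (Algebra.TensorProduct.includeRight : S' →ₐ[R₀] T ⊗[R₀] S') = Q' →
      𝔓.comap (Algebra.TensorProduct.includeLeft : T →ₐ[R₀] T ⊗[R₀] S') = maximalIdeal T →
      Module.Flat T (Localization.AtPrime 𝔓))
    (B : Type u) [CommRing B] [Algebra S' B] [Algebra R₀ B] [IsScalarTower R₀ S' B]
    [IsLocalization.AtPrime B Q'] : Module.Flat R₀ B := by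
  let R' := MvPolynomial (Fin n) R₀
  letI a1 : Algebra R' S₀ := (MvPolynomial.aeval (R := R₀) τ).toRingHom.toAlgebra
  haveI t1 : IsScalarTower R₀ R' S₀ := by
    refine IsScalarTower.of_algebraMap_eq fun r => ?_
    change _ = MvPolynomial.aeval (R := R₀) τ (MvPolynomial.C r)
    rw [MvPolynomial.aeval_C]
  letI a2 : Algebra R' S' := ((algebraMap S₀ S').comp (algebraMap R' S₀)).toAlgebra
  haveI t2 : IsScalarTower R' S₀ S' := IsScalarTower.of_algebraMap_eq' rfl
  haveI t3 : IsScalarTower R₀ R' S' := by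
    refine IsScalarTower.of_algebraMap_eq fun r => ?_
    rw [IsScalarTower.algebraMap_apply R₀ S₀ S', IsScalarTower.algebraMap_apply R' S₀ S',
      ← IsScalarTower.algebraMap_apply R₀ R' S₀]
  obtain ⟨Pe, φ₁, hφ₁⟩ := hstd
  letI a3 : Algebra R₀ Pe.Ring := ((algebraMap R' Pe.Ring).comp (algebraMap R₀ R')).toAlgebra
  haveI t4 : IsScalarTower R₀ R' Pe.Ring := IsScalarTower.of_algebraMap_eq' rfl
  let e : Localization.Away g ≃ₐ[S₀] S' :=
    IsLocalization.algEquiv (Submonoid.powers g) (Localization.Away g) S'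
  let φ' : Pe.Ring →ₐ[R'] S' := (e.restrictScalars R').toAlgHom.comp φ₁
  have hφ' : Surjective φ' := (e.surjective).comp hφ₁
  let φ'' : Pe.Ring →ₐ[R₀] S' := φ'.restrictScalars R₀
  have hφ'' : Surjective φ'' := hφ'
  refine flat_of_etale_surjection (n := n) Pe.Ring S' φ'' hφ'' Q' ?_ hR4 B
  have h1 : (Q'.comap φ'').under R' = Q'.under R' := by
    ext p
    simp only [Ideal.under, Ideal.mem_comap]
    change φ' (algebraMap R' Pe.Ring p) ∈ Q' ↔ _
    rw [AlgHom.commutes]
  have h2 : Q'.under R' = Q.comap (algebraMap R' S₀) := by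
    rw [← hQ', Ideal.comap_comap]
    rfl
  have h3 : Q'.under R₀ = Q.under R₀ := by
    rw [← hQ']
    change _ = Ideal.comap (algebraMap R₀ S₀) (Ideal.comap (algebraMap S₀ S') Q')
    rw [Ideal.comap_comap, ← IsScalarTower.algebraMap_eq]
  rw [h1, h2, h3]
  exact hG1

end Groth.Agent.H17.Flat
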