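import Mathlib

set_option autoImplicit false
set_option linter.unusedSectionVars false
set_option linter.style.haveILetI false
universe u
open scoped TensorProduct
open IsLocalRing Function

namespace Groth.Agent.H17.Flat

section

variable {R₀ S₀ : Type u} [CommRing R₀] [CommRing S₀] [Algebra R₀ S₀]
  (P : Ideal R₀) [P.IsPrime] (Q : Ideal S₀) [Q.IsPrime]
  (A B : Type u) [CommRing A] [CommRing B] [IsLocalRing A] [IsLocalRing B]
  [Algebra R₀ A] [Algebra S₀ B] [Algebra R₀ B] [Algebra A B] [IsScalarTower R₀ A B]
  [IsScalarTower R₀ S₀ B] [IsLocalization.AtPrime A P] [IsLocalization.AtPrime B Q]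
  [IsLocalHom (algebraMap A B)] {n : ℕ} (τ : Fin n → S₀)

/-- the residue of `aeval τ p` is `aeval t̄` of the reduction of `p` -/
theorem residue_aeval (p : MvPolynomial (Fin n) R₀) :
    residue B (algebraMap S₀ B (MvPolynomial.aeval (R := R₀) τ p)) =
      MvPolynomial.aeval (R := ResidueField A) (fun i => residue B (algebraMap S₀ B (τ i)))
        (MvPolynomial.map (algebraMap R₀ (ResidueField A)) p) := by
  induction p using MvPolynomial.induction_on with
  | C r =>
    rw [MvPolynomial.aeval_C, MvPolynomial.map_C, MvPolynomial.aeval_C,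
      ← IsScalarTower.algebraMap_apply R₀ S₀ B, IsScalarTower.algebraMap_apply R₀ A B,
      IsScalarTower.algebraMap_apply R₀ A (ResidueField A)]
    rfl
  | add p q hp hq => simp only [map_add, hp, hq]
  | mul_X p i hp => simp only [map_mul, hp, MvPolynomial.aeval_X, MvPolynomial.map_X]

include A B in
theorem mem_iff_of_isScalarTower (r : R₀) : algebraMap R₀ S₀ r ∈ Q ↔ r ∈ P := by
  rw [← IsLocalization.AtPrime.to_map_mem_maximal_iff B Q, ← IsScalarTower.algebraMap_apply,
    IsScalarTower.algebraMap_apply R₀ A B, ← IsLocalization.AtPrime.to_map_mem_maximal_iff A P]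
  constructor
  · intro h
    by_contra hn
    have hu : IsUnit (algebraMap R₀ A r) := by
      rwa [IsLocalRing.mem_maximalIdeal, mem_nonunits_iff, not_not] at hn
    exact (IsLocalRing.mem_maximalIdeal _).mp h (hu.map _)
  · intro h
    have := ((IsLocalRing.local_hom_TFAE (algebraMap A B)).out 0 2).mp
      (inferInstance : IsLocalHom (algebraMap A B))
    exact this (Ideal.mem_map_of_mem _ h)

theorem comap_aeval_eq
    (hindep : AlgebraicIndependent (ResidueField A)
      (fun i => residue B (algebraMap S₀ B (τ i)))) :
    Q.comap (MvPolynomial.aeval (R := R₀) τ).toRingHom =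
      P.map (algebraMap R₀ (MvPolynomial (Fin n) R₀)) := by
  ext p
  rw [Ideal.mem_comap, MvPolynomial.algebraMap_eq, MvPolynomial.mem_map_C_iff]
  change MvPolynomial.aeval (R := R₀) τ p ∈ Q ↔ _
  rw [← IsLocalization.AtPrime.to_map_mem_maximal_iff B Q, ← IsLocalRing.residue_eq_zero_iff,
    residue_aeval A B τ p]
  have hinj := hindep
  rw [AlgebraicIndependent, injective_iff_map_eq_zero] at hinj
  constructor
  · intro h m
    have h0 := hinj _ h
    have h1 := congrArg (MvPolynomial.coeff m) h0
    rw [MvPolynomial.coeff_map, MvPolynomial.coeff_zero,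
      IsScalarTower.algebraMap_apply R₀ A (ResidueField A)] at h1
    have h2 : algebraMap R₀ A (MvPolynomial.coeff m p) ∈ maximalIdeal A :=
      (IsLocalRing.residue_eq_zero_iff _).mp h1
    exact (IsLocalization.AtPrime.to_map_mem_maximal_iff A P _).mp h2
  · intro h
    have h0 : MvPolynomial.map (algebraMap R₀ (ResidueField A)) p = 0 := by
      ext m
      rw [MvPolynomial.coeff_map, MvPolynomial.coeff_zero,
        IsScalarTower.algebraMap_apply R₀ A (ResidueField A)]
      exact (IsLocalRing.residue_eq_zero_iff _).mpr
        ((IsLocalization.AtPrime.to_map_mem_maximal_iff A P _).mpr (h m))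
    rw [h0, map_zero]

include P in
/-- separability of the residue field of `B` over the residue field of the localization of the
polynomial ring -/
theorem isUnramifiedAt_of_sepBasis [Algebra.FiniteType R₀ S₀]
    (hmax : (maximalIdeal A).map (algebraMap A B) = maximalIdeal B)
    (hsep : Algebra.IsSeparable (IntermediateField.adjoin (ResidueField A)
      (Set.range fun i => residue B (algebraMap S₀ B (τ i)))) (ResidueField B)) :
    letI := (MvPolynomial.aeval (R := R₀) τ).toRingHom.toAlgebra
    Algebra.IsUnramifiedAt (MvPolynomial (Fin n) R₀) Q := by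
  classical
  let R' := MvPolynomial (Fin n) R₀
  letI a1 : Algebra R' S₀ := (MvPolynomial.aeval (R := R₀) τ).toRingHom.toAlgebra
  have ha1 : ∀ p : R', algebraMap R' S₀ p = MvPolynomial.aeval (R := R₀) τ p := fun p => rfl
  haveI t1 : IsScalarTower R₀ R' S₀ := by
    refine IsScalarTower.of_algebraMap_eq fun r => ?_
    rw [ha1, MvPolynomial.algebraMap_eq, MvPolynomial.aeval_C]
  letI a2 : Algebra R' B := ((algebraMap S₀ B).comp (algebraMap R' S₀)).toAlgebra
  haveI t2 : IsScalarTower R' S₀ B := IsScalarTower.of_algebraMap_eq' rfl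
  haveI t3 : IsScalarTower R₀ R' B := by
    refine IsScalarTower.of_algebraMap_eq fun r => ?_
    rw [IsScalarTower.algebraMap_apply R₀ S₀ B, IsScalarTower.algebraMap_apply R' S₀ B,
      ← IsScalarTower.algebraMap_apply R₀ R' S₀]
  let P' : Ideal R' := (maximalIdeal B).comap (algebraMap R' B)
  haveI : P'.IsPrime := Ideal.comap_isPrime _ _
  let A' := Localization.AtPrime P'
  have hunits : ∀ y : P'.primeCompl, IsUnit (algebraMap R' B y) := by
    intro y
    have := y.2
    change ¬ (algebraMap R' B y.1 ∈ maximalIdeal B) at this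
    rwa [IsLocalRing.mem_maximalIdeal, mem_nonunits_iff, not_not] at this
  letI a3 : Algebra A' B := (IsLocalization.lift (M := P'.primeCompl) (S := A') hunits).toAlgebra
  have ha3 : ∀ x : R', algebraMap A' B (algebraMap R' A' x) = algebraMap R' B x := fun x =>
    IsLocalization.lift_eq hunits x
  haveI t4 : IsScalarTower R' A' B := IsScalarTower.of_algebraMap_eq fun x => (ha3 x).symm
  haveI hloc : IsLocalHom (algebraMap A' B) := by
    refine ⟨fun a ha => ?_⟩
    obtain ⟨x, s, rfl⟩ := IsLocalization.exists_mk'_eq P'.primeCompl a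
    rw [IsLocalization.AtPrime.isUnit_mk'_iff A' P']
    intro hx
    have h1 : algebraMap A' B (IsLocalization.mk' A' x s) * algebraMap R' B s.1 =
        algebraMap R' B x := by
      rw [← ha3, ← ha3, ← map_mul, IsLocalization.mk'_spec]
    have h2 : IsUnit (algebraMap R' B x) := by
      rw [← h1]; exact ha.mul (hunits s)
    exact (IsLocalRing.mem_maximalIdeal _).mp hx h2
  haveI : Algebra.FiniteType R' S₀ := Algebra.FiniteType.of_restrictScalars_finiteType R₀ R' S₀
  haveI : Algebra.EssFiniteType S₀ B := Algebra.EssFiniteType.of_isLocalization B Q.primeCompl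
  haveI : Algebra.EssFiniteType R' B := Algebra.EssFiniteType.comp R' S₀ B
  haveI : Algebra.EssFiniteType A' B := Algebra.EssFiniteType.of_comp R' A' B
  -- the maximal ideal
  have hPB : ∀ r ∈ P, algebraMap R₀ B r ∈ maximalIdeal B := by
    intro r hr
    rw [IsScalarTower.algebraMap_apply R₀ A B]
    have := ((IsLocalRing.local_hom_TFAE (algebraMap A B)).out 0 2).mp
      (inferInstance : IsLocalHom (algebraMap A B))
    exact this (Ideal.mem_map_of_mem _
      ((IsLocalization.AtPrime.to_map_mem_maximal_iff A P r).mpr hr))
  have hm : (maximalIdeal A').map (algebraMap A' B) = maximalIdeal B := by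
    apply le_antisymm
    · exact ((IsLocalRing.local_hom_TFAE (algebraMap A' B)).out 0 2).mp hloc
    · rw [← hmax, ← IsLocalization.AtPrime.map_eq_maximalIdeal P A, Ideal.map_map,
        ← IsScalarTower.algebraMap_eq, Ideal.map_le_iff_le_comap]
      intro r hr
      rw [Ideal.mem_comap, IsScalarTower.algebraMap_apply R₀ R' B, ← ha3]
      refine Ideal.mem_map_of_mem _ ?_
      rw [IsLocalization.AtPrime.to_map_mem_maximal_iff A' P']
      change algebraMap R' B _ ∈ maximalIdeal B
      rw [← IsScalarTower.algebraMap_apply R₀ R' B]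
      exact hPB r hr
  -- separability of the residue field extension
  let ρ : ResidueField A' →+* ResidueField B := algebraMap (ResidueField A') (ResidueField B)
  have hρ : ∀ x : R', residue B (algebraMap R' B x) = ρ (residue A' (algebraMap R' A' x)) := by
    intro x
    rw [← ha3]
    rfl
  let t : Fin n → ResidueField B := fun i => residue B (algebraMap S₀ B (τ i))
  have hFsub : ∀ x ∈ IntermediateField.adjoin (ResidueField A) (Set.range t),
      x ∈ Set.range ρ := by
    intro x hx
    have hx' : x ∈ (IntermediateField.adjoin (ResidueField A) (Set.range t)).toSubfield := hx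
    rw [IntermediateField.adjoin_toSubfield] at hx'
    have hle : Subfield.closure (Set.range (algebraMap (ResidueField A) (ResidueField B)) ∪
        Set.range t) ≤ ρ.fieldRange := by
      rw [Subfield.closure_le]
      rintro y (⟨a, rfl⟩ | ⟨i, rfl⟩)
      · obtain ⟨a, rfl⟩ := IsLocalRing.residue_surjective a
        obtain ⟨r, s, rfl⟩ := IsLocalization.exists_mk'_eq P.primeCompl a
        have h1 : algebraMap A B (IsLocalization.mk' A r s) * algebraMap R₀ B s.1 =
            algebraMap R₀ B r := by
          rw [IsScalarTower.algebraMap_apply R₀ A B, IsScalarTower.algebraMap_apply R₀ A B,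
            ← map_mul, IsLocalization.mk'_spec]
        have h2 : residue B (algebraMap R₀ B s.1) ≠ 0 := by
          rw [Ne, IsLocalRing.residue_eq_zero_iff, IsScalarTower.algebraMap_apply R₀ A B]
          intro h
          have hu : IsUnit (algebraMap R₀ A s.1) := IsLocalization.map_units A s
          exact (IsLocalRing.mem_maximalIdeal _).mp h (hu.map _)
        have h3 : algebraMap (ResidueField A) (ResidueField B)
            (residue A (IsLocalization.mk' A r s)) =
            residue B (algebraMap R₀ B r) / residue B (algebraMap R₀ B s.1) := by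
          rw [eq_div_iff h2, ← h1, map_mul]
          rfl
        change algebraMap (ResidueField A) (ResidueField B) _ ∈ ρ.fieldRange
        rw [h3, IsScalarTower.algebraMap_apply R₀ R' B, IsScalarTower.algebraMap_apply R₀ R' B,
          hρ, hρ]
        exact div_mem ⟨_, rfl⟩ ⟨_, rfl⟩
      · change residue B (algebraMap S₀ B (τ i)) ∈ ρ.fieldRange
        have h4 : algebraMap S₀ B (τ i) = algebraMap R' B (MvPolynomial.X i) := by
          rw [IsScalarTower.algebraMap_apply R' S₀ B, ha1, MvPolynomial.aeval_X]
        rw [h4, hρ]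
        exact ⟨_, rfl⟩
    exact hle hx'
  haveI : Algebra.IsSeparable (ResidueField A') (ResidueField B) := by
    refine ⟨fun x => ?_⟩
    let F := IntermediateField.adjoin (ResidueField A) (Set.range t)
    have hμ : (minpoly F x).Separable := Algebra.IsSeparable.isSeparable F x
    have hlift : (minpoly F x).map (algebraMap F (ResidueField B)) ∈ Polynomial.lifts ρ := by
      rw [Polynomial.lifts_iff_coeff_lifts]
      intro k
      rw [Polynomial.coeff_map]
      exact hFsub _ ((minpoly F x).coeff k).2
    obtain ⟨ν, hν⟩ := (Polynomial.mem_lifts _).mp hlift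
    have hνsep : ν.Separable := by
      rw [← Polynomial.separable_map ρ, hν]
      exact hμ.map
    have hν0 : Polynomial.aeval x ν = 0 := by
      rw [Polynomial.aeval_def, ← Polynomial.eval_map, hν, Polynomial.eval_map,
        ← Polynomial.aeval_def, minpoly.aeval]
    exact hνsep.of_dvd (minpoly.dvd _ _ hν0)
  haveI : Algebra.FormallyUnramified A' B := Algebra.FormallyUnramified.of_map_maximalIdeal hm
  haveI : Algebra.FormallyUnramified R' A' :=
    Algebra.FormallyUnramified.of_isLocalization P'.primeCompl
  haveI : Algebra.FormallyUnramified R' B := Algebra.FormallyUnramified.comp R' A' B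
  let e : B ≃ₐ[S₀] Localization.AtPrime Q :=
    IsLocalization.algEquiv Q.primeCompl B (Localization.AtPrime Q)
  exact Algebra.FormallyUnramified.of_equiv (e.restrictScalars R')

include P in
/-- **Part 1**: a standard étale surjection onto a localization `S₀[1/g]`, `g ∉ Q`. -/
theorem exists_hasStandardEtaleSurjectionOn_of_sepBasis [Algebra.FiniteType R₀ S₀]
    (hmax : (maximalIdeal A).map (algebraMap A B) = maximalIdeal B)
    (hsep : Algebra.IsSeparable (IntermediateField.adjoin (ResidueField A)
      (Set.range fun i => residue B (algebraMap S₀ B (τ i)))) (ResidueField B)) :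
    ∃ g, g ∉ Q ∧ (letI := (MvPolynomial.aeval (R := R₀) τ).toRingHom.toAlgebra
      HasStandardEtaleSurjectionOn (MvPolynomial (Fin n) R₀) g) := by
  letI a1 : Algebra (MvPolynomial (Fin n) R₀) S₀ :=
    (MvPolynomial.aeval (R := R₀) τ).toRingHom.toAlgebra
  haveI t1 : IsScalarTower R₀ (MvPolynomial (Fin n) R₀) S₀ := by
    refine IsScalarTower.of_algebraMap_eq fun r => ?_
    change _ = MvPolynomial.aeval (R := R₀) τ (algebraMap R₀ _ r)
    rw [MvPolynomial.algebraMap_eq, MvPolynomial.aeval_C]
  haveI : Algebra.FiniteType (MvPolynomial (Fin n) R₀) S₀ :=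
    Algebra.FiniteType.of_restrictScalars_finiteType R₀ (MvPolynomial (Fin n) R₀) S₀
  haveI : Algebra.IsUnramifiedAt (MvPolynomial (Fin n) R₀) Q :=
    isUnramifiedAt_of_sepBasis P Q A B τ hmax hsep
  exact Algebra.IsUnramifiedAt.exists_hasStandardEtaleSurjectionOn
    (R := MvPolynomial (Fin n) R₀) Q

end

end Groth.Agent.H17.Flat
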