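import Mathlib
import Groth.Agent.H17.Flat.Chart
import Groth.Agent.H17.Flat.FibreField
import Groth.Agent.H17.Flat.UnramModel
import Groth.Agent.H17.Flat.EtaleWrap
import Groth.Agent.H25.ReducedLocus
import Groth.Agent.H25.GeomRedOpen
import Groth.Agent.H22.DVRSpec

set_option autoImplicit false
set_option linter.unusedSectionVars false
set_option linter.style.haveILetI false
set_option linter.overlappingInstances false
universe u
open scoped TensorProduct
open CategoryTheory CategoryTheory.Limits AlgebraicGeometry Topology TopologicalSpace IsLocalRing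

namespace Groth.Agent.H17.Flat

/-- finitely many germs at `z` are sections over a common affine open neighbourhood inside a
given open neighbourhood -/
theorem exists_affine_sections {X : Scheme.{u}} (z : X) (W : X.Opens) (hzW : z ∈ W) {n : ℕ}
    (t : Fin n → X.presheaf.stalk z) :
    ∃ (U : X.Opens) (_ : IsAffineOpen U) (hzU : z ∈ U), U ≤ W ∧
      ∃ τ : Fin n → Γ(X, U), ∀ i, X.presheaf.germ U z hzU (τ i) = t i := by
  classical
  have hex : ∀ i, ∃ (Ui : X.Opens) (m : z ∈ Ui) (s : Γ(X, Ui)), X.presheaf.germ Ui z m s = t i :=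
    fun i => TopCat.Presheaf.exists_germ_eq X.presheaf (t i)
  choose Ui hm s hs using hex
  let W' : X.Opens := W ⊓ ⨅ i, Ui i
  have hinf : ∀ i, W' ≤ Ui i := fun i => inf_le_right.trans (iInf_le _ i)
  have hzW' : z ∈ W' := by
    refine ⟨hzW, ?_⟩
    rw [TopologicalSpace.Opens.coe_iInf, Set.mem_iInter]
    exact fun i => hm i
  obtain ⟨_, ⟨U, hU, rfl⟩, hzU, hUW'⟩ :=
    X.isBasis_affineOpens.exists_subset_of_mem_open hzW' W'.isOpen
  replace hUW' : U ≤ W' := hUW'
  refine ⟨U, hU, hzU, hUW'.trans inf_le_left, fun i =>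
    X.presheaf.map (homOfLE (hUW'.trans (hinf i))).op (s i), fun i => ?_⟩
  rw [TopCat.Presheaf.germ_res_apply]
  exact hs i

/-- **Step 1**: flatness at a maximal point of a fibre at which the fibre is geometrically
reduced and the morphism is universally open, over a reduced local ring. -/
theorem flat_stalkMap_of_generic_fibre_point {X Y : Scheme.{u}} [IsLocallyNoetherian Y]
    (f : X ⟶ Y) [LocallyOfFiniteType f] (y : Y) (w : ↥(f.fiber y))
    (hmax : ∀ w' : ↥(f.fiber y), w' ⤳ w → w' = w)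
    (hred : FBase.IsGeomReducedAt (f.fiberToSpecResidueField y) w)
    (hopen : EGA43.IsUnivOpenAt f (f.fiberι y w))
    (hy : _root_.IsReduced (Y.presheaf.stalk y)) :
    (f.stalkMap (f.fiberι y w)).hom.Flat := by
  classical
  have hfz : f (f.fiberι y w) = y := (f.range_fiberι y).le ⟨w, rfl⟩
  letI algAB : Algebra (Y.presheaf.stalk (f (f.fiberι y w))) (X.presheaf.stalk (f.fiberι y w)) :=
    (f.stalkMap (f.fiberι y w)).hom.toAlgebra
  haveI locAB : IsLocalHom (algebraMap (Y.presheaf.stalk (f (f.fiberι y w)))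
      (X.presheaf.stalk (f.fiberι y w))) :=
    inferInstanceAs (IsLocalHom (f.stalkMap (f.fiberι y w)).hom)
  obtain ⟨hmaxring, hgr⟩ := fibre_stalk_facts f y w hmax hred rfl
  haveI := hgr
  haveI : Algebra.EssFiniteType (Y.presheaf.stalk (f (f.fiberι y w)))
      (X.presheaf.stalk (f.fiberι y w)) := LocallyOfFiniteType.stalkMap f (f.fiberι y w)
  obtain ⟨n, t, hindep, hsep⟩ := exists_sepBasis_local (Y.presheaf.stalk (f (f.fiberι y w)))
    (X.presheaf.stalk (f.fiberι y w))
  -- a reduced affine neighbourhood of `f z`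
  have hWo := Groth.Agent.H25.ReducedLocus.isOpen_reducedLocus Y
  have hfzW : f (f.fiberι y w) ∈ {y' : Y | _root_.IsReduced (Y.presheaf.stalk y')} := by
    rw [hfz]; exact hy
  obtain ⟨_, ⟨V, hV, rfl⟩, hfzV, hVW⟩ :=
    Y.isBasis_affineOpens.exists_subset_of_mem_open hfzW hWo
  replace hV : IsAffineOpen V := hV
  haveI : IsNoetherianRing Γ(Y, V) := IsLocallyNoetherian.component_noetherian ⟨V, hV⟩
  haveI : _root_.IsReduced Γ(Y, V) :=
    Groth.Agent.H25.GeomRedOpen.isReduced_sections_of_stalks V (fun y' hy' => hVW hy')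
  -- an affine neighbourhood of `z` with sections `τ`
  obtain ⟨U, hU, hzU, hUV, τ, hτ⟩ := exists_affine_sections (f.fiberι y w) (f ⁻¹ᵁ V) hfzV t
  letI aRS : Algebra Γ(Y, V) Γ(X, U) := (f.appLE V U hUV).hom.toAlgebra
  letI aRA : Algebra Γ(Y, V) (Y.presheaf.stalk (f (f.fiberι y w))) :=
    TopCat.Presheaf.algebra_section_stalk Y.presheaf (⟨f (f.fiberι y w), hfzV⟩ : V)
  letI aSB : Algebra Γ(X, U) (X.presheaf.stalk (f.fiberι y w)) :=
    TopCat.Presheaf.algebra_section_stalk X.presheaf (⟨f.fiberι y w, hzU⟩ : U)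
  letI aRB : Algebra Γ(Y, V) (X.presheaf.stalk (f.fiberι y w)) :=
    ((algebraMap Γ(X, U) (X.presheaf.stalk (f.fiberι y w))).comp
      (algebraMap Γ(Y, V) Γ(X, U))).toAlgebra
  haveI tRSB : IsScalarTower Γ(Y, V) Γ(X, U) (X.presheaf.stalk (f.fiberι y w)) :=
    IsScalarTower.of_algebraMap_eq' rfl
  have hgermapp : ∀ (U' : X.Opens) (hU'V : U' ≤ f ⁻¹ᵁ V) (hzU' : f.fiberι y w ∈ U')
      (a : Γ(Y, V)), (X.presheaf.germ U' (f.fiberι y w) hzU').hom ((f.appLE V U' hU'V).hom a) =
        (f.stalkMap (f.fiberι y w)).hom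
          ((Y.presheaf.germ V (f (f.fiberι y w)) hfzV).hom a) := by
    intro U' hU'V hzU' a
    have h1 := Scheme.Hom.germ_stalkMap_apply f V (f.fiberι y w) hfzV a
    rw [show (f.stalkMap (f.fiberι y w)).hom
          ((Y.presheaf.germ V (f (f.fiberι y w)) hfzV).hom a) =
        X.presheaf.germ (f ⁻¹ᵁ V) (f.fiberι y w) hfzV (f.app V a) from h1]
    rw [Scheme.Hom.appLE]
    exact TopCat.Presheaf.germ_res_apply X.presheaf (homOfLE hU'V) (f.fiberι y w) hzU' _
  haveI tRAB : IsScalarTower Γ(Y, V) (Y.presheaf.stalk (f (f.fiberι y w)))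
      (X.presheaf.stalk (f.fiberι y w)) := by
    refine IsScalarTower.of_algebraMap_eq fun a => ?_
    exact hgermapp U hUV hzU a
  haveI lA : IsLocalization.AtPrime (Y.presheaf.stalk (f (f.fiberι y w)))
      (hV.primeIdealOf ⟨f (f.fiberι y w), hfzV⟩).asIdeal :=
    hV.isLocalization_stalk ⟨f (f.fiberι y w), hfzV⟩
  haveI lB : IsLocalization.AtPrime (X.presheaf.stalk (f.fiberι y w))
      (hU.primeIdealOf ⟨f.fiberι y w, hzU⟩).asIdeal :=
    hU.isLocalization_stalk ⟨f.fiberι y w, hzU⟩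
  haveI ftRS : Algebra.FiniteType Γ(Y, V) Γ(X, U) := f.finiteType_appLE hV hU hUV
  let P : Ideal Γ(Y, V) := (hV.primeIdealOf ⟨f (f.fiberι y w), hfzV⟩).asIdeal
  let Q : Ideal Γ(X, U) := (hU.primeIdealOf ⟨f.fiberι y w, hzU⟩).asIdeal
  have hτ' : ∀ i, algebraMap Γ(X, U) (X.presheaf.stalk (f.fiberι y w)) (τ i) = t i := hτ
  have hfun : (fun i => residue (X.presheaf.stalk (f.fiberι y w))
      (algebraMap Γ(X, U) (X.presheaf.stalk (f.fiberι y w)) (τ i))) =
      fun i => residue (X.presheaf.stalk (f.fiberι y w)) (t i) :=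
    funext fun i => by rw [hτ']
  have hindep' : AlgebraicIndependent (ResidueField (Y.presheaf.stalk (f (f.fiberι y w))))
      (fun i => residue (X.presheaf.stalk (f.fiberι y w))
        (algebraMap Γ(X, U) (X.presheaf.stalk (f.fiberι y w)) (τ i))) := by
    rw [hfun]; exact hindep
  have hsep' : Algebra.IsSeparable (IntermediateField.adjoin
      (ResidueField (Y.presheaf.stalk (f (f.fiberι y w))))
      (Set.range fun i => residue (X.presheaf.stalk (f.fiberι y w))
        (algebraMap Γ(X, U) (X.presheaf.stalk (f.fiberι y w)) (τ i))))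
      (ResidueField (X.presheaf.stalk (f.fiberι y w))) := by
    rw [hfun]; exact hsep
  have hG1 := comap_aeval_eq P Q (Y.presheaf.stalk (f (f.fiberι y w)))
    (X.presheaf.stalk (f.fiberι y w)) τ hindep'
  obtain ⟨g, hgQ, hstd⟩ := exists_hasStandardEtaleSurjectionOn_of_sepBasis P Q
    (Y.presheaf.stalk (f (f.fiberι y w))) (X.presheaf.stalk (f.fiberι y w)) τ hmaxring hsep'
  have hPQ : Q.under Γ(Y, V) = P := by
    ext r
    exact mem_iff_of_isScalarTower P Q (Y.presheaf.stalk (f (f.fiberι y w)))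
      (X.presheaf.stalk (f.fiberι y w)) r
  let U' : X.Opens := X.basicOpen g
  have hU' : IsAffineOpen U' := hU.basicOpen g
  have hU'U : U' ≤ U := X.basicOpen_le g
  have hzU' : f.fiberι y w ∈ U' := by
    by_contra hn
    exact hgQ ((Groth.Agent.H22.DVRSpec.mem_primeIdealOf_iff hU ⟨f.fiberι y w, hzU⟩ g).mpr hn)
  have hU'V : U' ≤ f ⁻¹ᵁ V := hU'U.trans hUV
  haveI locS' : IsLocalization.Away g Γ(X, U') := hU.isLocalization_basicOpen g
  letI aRS' : Algebra Γ(Y, V) Γ(X, U') := (f.appLE V U' hU'V).hom.toAlgebra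
  haveI tRSS' : IsScalarTower Γ(Y, V) Γ(X, U) Γ(X, U') := by
    refine IsScalarTower.of_algebraMap_eq fun a => ?_
    change (f.appLE V U' hU'V).hom a =
      (X.presheaf.map (homOfLE hU'U).op).hom ((f.appLE V U hUV).hom a)
    rw [← CommRingCat.comp_apply, Scheme.Hom.appLE_map]
  let Q' : Ideal Γ(X, U') := (hU'.primeIdealOf ⟨f.fiberι y w, hzU'⟩).asIdeal
  have hQ' : Q'.comap (algebraMap Γ(X, U) Γ(X, U')) = Q := by
    ext b
    rw [Ideal.mem_comap, Groth.Agent.H22.DVRSpec.mem_primeIdealOf_iff,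
      Groth.Agent.H22.DVRSpec.mem_primeIdealOf_iff]
    change f.fiberι y w ∉ X.basicOpen ((X.presheaf.map (homOfLE hU'U).op).hom b) ↔ _
    rw [Scheme.basicOpen_res]
    constructor
    · intro h hb
      exact h ⟨hzU', hb⟩
    · intro h hb
      exact h hb.2
  have hR4 := dvrFlat_chart f y w hmax hred hopen V hV U' hU' hU'V hzU'
  letI aS'B : Algebra Γ(X, U') (X.presheaf.stalk (f.fiberι y w)) :=
    TopCat.Presheaf.algebra_section_stalk X.presheaf (⟨f.fiberι y w, hzU'⟩ : U')
  haveI tRS'B : IsScalarTower Γ(Y, V) Γ(X, U') (X.presheaf.stalk (f.fiberι y w)) := by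
    refine IsScalarTower.of_algebraMap_eq fun a => ?_
    change (X.presheaf.germ U (f.fiberι y w) hzU).hom ((f.appLE V U hUV).hom a) =
      (X.presheaf.germ U' (f.fiberι y w) hzU').hom ((f.appLE V U' hU'V).hom a)
    rw [hgermapp U hUV hzU a, hgermapp U' hU'V hzU' a]
  haveI lB' : IsLocalization.AtPrime (X.presheaf.stalk (f.fiberι y w)) Q' :=
    hU'.isLocalization_stalk ⟨f.fiberι y w, hzU'⟩
  have hflat : Module.Flat Γ(Y, V) (X.presheaf.stalk (f.fiberι y w)) :=
    flat_of_hasStandardEtaleSurjectionOn τ Q g hstd (by rw [hPQ]; exact hG1) Γ(X, U') Q' hQ' hR4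
      (X.presheaf.stalk (f.fiberι y w))
  exact (Module.flat_iff_of_isLocalization (S := Y.presheaf.stalk (f (f.fiberι y w)))
    (p := P.primeCompl) (X.presheaf.stalk (f.fiberι y w))).mpr hflat

end Groth.Agent.H17.Flat
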