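import Mathlib
import Groth.Agent.H17.Flat.FibreField
import Groth.Agent.H17.Flat.Step1
import Groth.Agent.H25.FibreEtale

/-!
# Converse of `fibre_stalk_facts`, and variants at an arbitrary point

* `isGeomReducedAt_of_fibre_field`: if `m_y O_{X,x} = m_x` and `κ(x)/κ(y)` is geometrically reduced,
  the fibre is geometrically reduced at `x`.
* primed variants of `fibre_stalk_facts` and of Step 1 for a point `x` with `f.fiberι y w = x`.
-/

set_option autoImplicit false
set_option linter.unusedSectionVars false
set_option linter.style.haveILetI false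
universe u
open CategoryTheory CategoryTheory.Limits AlgebraicGeometry Topology TopologicalSpace IsLocalRing
open Groth.Agent.H15.StalkLoc Groth.Agent.H99.LocFactorial Groth.Agent.H49.FibreStalk
open Groth.Agent.H25.StalkBC

namespace Groth.Agent.H17.Flat

attribute [local instance] Curv2.stalkAlgebra in
/-- converse of `fibre_stalk_facts` -/
theorem isGeomReducedAt_of_fibre_field {X Y : Scheme.{u}} (f : X ⟶ Y) (y : Y)
    (w : ↥(f.fiber y))
    [Algebra (Y.presheaf.stalk (f (f.fiberι y w))) (X.presheaf.stalk (f.fiberι y w))]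
    (halg : algebraMap (Y.presheaf.stalk (f (f.fiberι y w))) (X.presheaf.stalk (f.fiberι y w)) =
      (f.stalkMap (f.fiberι y w)).hom)
    [IsLocalHom (algebraMap (Y.presheaf.stalk (f (f.fiberι y w)))
      (X.presheaf.stalk (f.fiberι y w)))]
    (hmaxring : (maximalIdeal (Y.presheaf.stalk (f (f.fiberι y w)))).map
      (algebraMap _ (X.presheaf.stalk (f.fiberι y w))) = maximalIdeal _)
    (hgr : Algebra.IsGeometricallyReduced (ResidueField (Y.presheaf.stalk (f (f.fiberι y w))))
      (ResidueField (X.presheaf.stalk (f.fiberι y w)))) :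
    FBase.IsGeomReducedAt (f.fiberToSpecResidueField y) w := by
  let κy := ResidueField (Y.presheaf.stalk y)
  let F := (f.fiber y).presheaf.stalk w
  let ψ : X.presheaf.stalk (f.fiberι y w) →+* F := ((f.fiberι y).stalkMap w).hom
  have hψsurj : Function.Surjective ψ := (f.fiberι y).stalkMap_surjective w
  letI ov : (f.fiber y).Over (Spec (CommRingCat.of κy)) := ⟨f.fiberToSpecResidueField y⟩
  suffices hG : Curv2.IsGeomReducedAt κy (f.fiber y) w from hG
  rw [Groth.Agent.H25.GeomRedAt.isGeomReducedAt_iff κy (f.fiber y) w]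
  let A := Y.presheaf.stalk (f (f.fiberι y w))
  let B := X.presheaf.stalk (f.fiberι y w)
  have hker : RingHom.ker ψ = maximalIdeal B := by
    rw [ker_stalkMap_fiberι f y w, ← hmaxring, halg]
  have hψm : ∀ x ∈ maximalIdeal B, ψ x = 0 := fun x hx => by
    rw [← RingHom.mem_ker, hker]; exact hx
  let ψ' : ResidueField B →+* F := Ideal.Quotient.lift (maximalIdeal B) ψ hψm
  have hψ'res : ∀ x : B, ψ' (residue B x) = ψ x := fun x => rfl
  have hψ'inj : Function.Injective ψ' := by
    rw [injective_iff_map_eq_zero]
    intro x hx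
    obtain ⟨x, rfl⟩ := IsLocalRing.residue_surjective x
    rw [hψ'res] at hx
    rw [IsLocalRing.residue_eq_zero_iff, ← hker]
    exact hx
  have hψ'surj : Function.Surjective ψ' := by
    intro t
    obtain ⟨b, rfl⟩ := hψsurj t
    exact ⟨residue B b, rfl⟩
  have hfz : f (f.fiberι y w) = y := (f.range_fiberι y).le ⟨w, rfl⟩
  have hins : Inseparable (f (f.fiberι y w)) y := .of_eq hfz
  let e₀ : A ≃+* Y.presheaf.stalk y := (Y.presheaf.stalkCongr hins).commRingCatIsoToRingEquiv
  let ε : ResidueField A ≃+* κy := IsLocalRing.ResidueField.mapEquiv e₀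
  letI algAF : Algebra (ResidueField A) F :=
    (ψ'.comp (algebraMap (ResidueField A) (ResidueField B))).toAlgebra
  have he : ∀ x : ResidueField A, algebraMap (ResidueField A) F x = algebraMap κy F (ε x) := by
    intro x
    obtain ⟨a, rfl⟩ := IsLocalRing.residue_surjective x
    change ψ' (algebraMap _ _ (residue A a)) = _
    rw [IsLocalRing.ResidueField.algebraMap_residue, hψ'res, halg]
    have := congrArg (fun φ => φ.hom a) (stalkMap_fiberι_comp f y w hins.ge)
    exact this
  -- `F` is geometrically reduced over `κ(A)`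
  let ψe : ResidueField B ≃+* F := RingEquiv.ofBijective ψ' ⟨hψ'inj, hψ'surj⟩
  let g : F →ₐ[ResidueField A] ResidueField B :=
    { ψe.symm.toRingHom with
      commutes' := fun x => by
        change ψe.symm (ψ' (algebraMap (ResidueField A) (ResidueField B) x)) = _
        exact ψe.symm_apply_apply _ }
  haveI hFA : Algebra.IsGeometricallyReduced (ResidueField A) F :=
    Algebra.IsGeometricallyReduced.of_injective g ψe.symm.injective
  have he' : ∀ x : κy, algebraMap κy F x = algebraMap (ResidueField A) F (ε.symm x) := by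
    intro x
    rw [he, ε.apply_symm_apply]
  exact isGeometricallyReduced_of_ringEquiv κy (ResidueField A) F ε.symm he'

/-- `fibre_stalk_facts` at a point `x` with `f.fiberι y w = x`. -/
theorem fibre_stalk_facts' {X Y : Scheme.{u}} (f : X ⟶ Y) (y : Y)
    (w : ↥(f.fiber y)) (x : X) (hx : f.fiberι y w = x)
    (hmax : ∀ w' : ↥(f.fiber y), w' ⤳ w → w' = w)
    (hred : FBase.IsGeomReducedAt (f.fiberToSpecResidueField y) w)
    [Algebra (Y.presheaf.stalk (f x)) (X.presheaf.stalk x)]
    (halg : algebraMap (Y.presheaf.stalk (f x)) (X.presheaf.stalk x) = (f.stalkMap x).hom)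
    [IsLocalHom (algebraMap (Y.presheaf.stalk (f x)) (X.presheaf.stalk x))] :
    (maximalIdeal (Y.presheaf.stalk (f x))).map
      (algebraMap _ (X.presheaf.stalk x)) = maximalIdeal _ ∧
    Algebra.IsGeometricallyReduced (ResidueField (Y.presheaf.stalk (f x)))
      (ResidueField (X.presheaf.stalk x)) := by
  subst hx
  exact fibre_stalk_facts f y w hmax hred halg

/-- `isGeomReducedAt_of_fibre_field` at a point `x` with `f.fiberι y w = x`. -/
theorem isGeomReducedAt_of_fibre_field' {X Y : Scheme.{u}} (f : X ⟶ Y) (y : Y)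
    (w : ↥(f.fiber y)) (x : X) (hx : f.fiberι y w = x)
    [Algebra (Y.presheaf.stalk (f x)) (X.presheaf.stalk x)]
    (halg : algebraMap (Y.presheaf.stalk (f x)) (X.presheaf.stalk x) = (f.stalkMap x).hom)
    [IsLocalHom (algebraMap (Y.presheaf.stalk (f x)) (X.presheaf.stalk x))]
    (hmaxring : (maximalIdeal (Y.presheaf.stalk (f x))).map
      (algebraMap _ (X.presheaf.stalk x)) = maximalIdeal _)
    (hgr : Algebra.IsGeometricallyReduced (ResidueField (Y.presheaf.stalk (f x)))
      (ResidueField (X.presheaf.stalk x))) :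
    FBase.IsGeomReducedAt (f.fiberToSpecResidueField y) w := by
  subst hx
  exact isGeomReducedAt_of_fibre_field f y w halg hmaxring hgr

/-- maximality in the fibre, transported to the scheme-theoretic fibre -/
theorem asFiber_maximal_of_maximal {X Y : Scheme.{u}} (f : X ⟶ Y) (x : X)
    (hmax : ∀ t : X, t ⤳ x → f t = f x → t = x) :
    ∀ w' : ↥(f.fiber (f x)), w' ⤳ f.asFiber x → w' = f.asFiber x := by
  intro w' hw'
  apply (f.fiberι (f x)).isEmbedding.injective
  rw [f.fiberι_asFiber]
  apply hmax
  · have := hw'.map (f.fiberι (f x)).continuous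
    rwa [f.fiberι_asFiber] at this
  · exact (f.range_fiberι (f x)).le ⟨w', rfl⟩

/-- **Step 1** at a point `x` maximal in its fibre. -/
theorem flat_stalkMap_of_generic_fibre_point' {X Y : Scheme.{u}} [IsLocallyNoetherian Y]
    (f : X ⟶ Y) [LocallyOfFiniteType f] (x : X)
    (hmax : ∀ t : X, t ⤳ x → f t = f x → t = x)
    (hred : FBase.IsGeomReducedAt (f.fiberToSpecResidueField (f x)) (f.asFiber x))
    (hopen : EGA43.IsUnivOpenAt f x)
    (hy : _root_.IsReduced (Y.presheaf.stalk (f x))) :
    (f.stalkMap x).hom.Flat := by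
  have h := flat_stalkMap_of_generic_fibre_point f (f x) (f.asFiber x)
    (asFiber_maximal_of_maximal f x hmax) hred (by rw [f.fiberι_asFiber]; exact hopen) hy
  exact (Groth.Agent.H25.FibreEtale.flat_stalkMap_congr f (f.fiberι_asFiber x)).mp h

end Groth.Agent.H17.Flat
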