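import Mathlib

/-!
# Flat quotients and Nakayama

If `φ : C → B` is a surjective `R`-algebra map with `B` flat over `R`, then
`ker φ ∩ I C = I · ker φ` for every ideal `I` of `R`.  Hence if `C` is Noetherian, `I C` lies in
the Jacobson radical and `ker φ ≤ I C`, the map `φ` is injective.
-/

set_option autoImplicit false
universe u

namespace Groth.Agent.H17.Flat

theorem mem_mul_ker_of_flat {R C B : Type u} [CommRing R] [CommRing C] [CommRing B]
    [Algebra R C] [Algebra R B] (φ : C →ₐ[R] B) (hφ : Function.Surjective φ)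
    [Module.Flat R B] (I : Ideal R) (x : C)
    (hxI : x ∈ I.map (algebraMap R C)) (hx : φ x = 0) :
    x ∈ I.map (algebraMap R C) * RingHom.ker φ.toRingHom := by
  classical
  -- a finite representation of `x`
  rw [Ideal.map, Ideal.span, Submodule.mem_span_iff_exists_finset_subset] at hxI
  obtain ⟨c, t, ht, -, hsum⟩ := hxI
  have hr : ∀ a : ↥t, ∃ r : R, r ∈ I ∧ algebraMap R C r = a.1 := fun a => ht a.2
  choose r hrI hra using hr
  have hsum' : ∑ a : ↥t, r a • c a.1 = x := by
    rw [← hsum, ← Finset.sum_coe_sort t (fun a => c a • a)]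
    refine Finset.sum_congr rfl fun a _ => ?_
    rw [Algebra.smul_def, hra, smul_eq_mul, mul_comm]
  have hrel : ∑ a : ↥t, r a • φ (c a.1) = 0 := by
    rw [← hx, ← hsum', map_sum]
    refine Finset.sum_congr rfl fun a _ => ?_
    rw [map_smul]
  obtain ⟨κ, α, y, h1, h2⟩ := Module.Flat.isTrivialRelation_of_sum_smul_eq_zero (R := R)
    (M := B) (f := r) (x := fun a => φ (c a.1)) hrel
  choose y' hy' using fun j => hφ (y j)
  -- the corrected coefficients lie in the kernel
  have hk : ∀ a : ↥t, c a.1 - ∑ j, α a j • y' j ∈ RingHom.ker φ.toRingHom := by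
    intro a
    rw [RingHom.mem_ker]
    change φ (c a.1 - ∑ j, α a j • y' j) = 0
    rw [map_sub, map_sum]
    have h1a : φ (c a.1) = ∑ j, α a j • y j := h1 a
    rw [h1a, sub_eq_zero]
    refine Finset.sum_congr rfl fun j _ => ?_
    rw [map_smul, hy']
  have hzero : ∑ a : ↥t, r a • ∑ j, α a j • y' j = 0 := by
    simp_rw [Finset.smul_sum, smul_smul]
    rw [Finset.sum_comm]
    refine Finset.sum_eq_zero fun j _ => ?_
    rw [← Finset.sum_smul, h2 j, zero_smul]
  have hx' : x = ∑ a : ↥t, r a • (c a.1 - ∑ j, α a j • y' j) := by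
    simp_rw [smul_sub]
    rw [Finset.sum_sub_distrib, hzero, sub_zero, hsum']
  rw [hx']
  refine Ideal.sum_mem _ fun a _ => ?_
  rw [Algebra.smul_def]
  exact Ideal.mul_mem_mul (Ideal.mem_map_of_mem _ (hrI a)) (hk a)

theorem injective_of_flat_of_ker_le {R C B : Type u} [CommRing R] [CommRing C] [CommRing B]
    [Algebra R C] [Algebra R B] (φ : C →ₐ[R] B) (hφ : Function.Surjective φ)
    [Module.Flat R B] [IsNoetherianRing C] (I : Ideal R)
    (hIjac : I.map (algebraMap R C) ≤ Ideal.jacobson ⊥)
    (hker : RingHom.ker φ.toRingHom ≤ I.map (algebraMap R C)) : Function.Injective φ := by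
  have hle : RingHom.ker φ.toRingHom ≤ I.map (algebraMap R C) • RingHom.ker φ.toRingHom := by
    intro x hx
    rw [smul_eq_mul]
    exact mem_mul_ker_of_flat φ hφ I x (hker hx) ((RingHom.mem_ker).mp hx)
  have hbot : RingHom.ker φ.toRingHom = ⊥ :=
    Submodule.eq_bot_of_le_smul_of_le_jacobson_bot (I.map (algebraMap R C))
      (RingHom.ker φ.toRingHom) (IsNoetherian.noetherian _) hle hIjac
  exact (RingHom.injective_iff_ker_eq_bot φ.toRingHom).mpr hbot

end Groth.Agent.H17.Flat
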