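import Mathlib
import Groth.Prelude.Def_CAlg2
import Groth.Agent.H13.GUCrit
import Groth.Agent.H14.HensProp.EtUni
import Groth.Agent.H17.Flat.DVRBase

/-!
# Geometric unibranchness and nilpotent thickenings

* `isGeomUnibranch_of_surjective`: a surjection of local rings with nil kernel transports geometric
  unibranchness.
* `ker_stalkMap_le_nilradical`: the stalk maps of a surjective (topological) embedding of schemes have
  nil kernel.
-/

set_option autoImplicit false
set_option linter.style.haveILetI false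
universe u

open CategoryTheory AlgebraicGeometry IsLocalRing
open Groth.Agent.H15.StalkLoc Groth.Agent.H99.LocFactorial

namespace Groth.Agent.H17.Flat

/-- Geometric unibranchness passes to quotients by nil ideals. -/
theorem isGeomUnibranch_of_surjective {A₁ A₂ : Type u} [CommRing A₁] [CommRing A₂] [IsLocalRing A₁]
    [IsLocalRing A₂] (φ : A₁ →+* A₂) (hs : Function.Surjective φ)
    (hk : RingHom.ker φ ≤ nilradical A₁) (h : CAlg2.IsGeomUnibranch A₁) :
    CAlg2.IsGeomUnibranch A₂ := by
  obtain ⟨⟨hdom, hloc⟩, -⟩ := id h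
  haveI := hdom
  haveI := hloc
  haveI : IsIntegrallyClosed (CAlg2.normRed A₁) :=
    Groth.Agent.H14.HensProp.isIntegrallyClosed_normRed A₁
  obtain ⟨p, hp, hpi⟩ := Groth.Agent.H14.HensProp.EtUni.exists_pi_data A₁ h
  have hinjR := Groth.Agent.H14.HensProp.UniqueMin.algebraMap_red_normRed_injective A₁
  have hker : RingHom.ker (algebraMap A₁ (CAlg2.normRed A₁)) = nilradical A₁ := by
    ext b
    rw [RingHom.mem_ker, IsScalarTower.algebraMap_apply A₁ (CAlg2.red A₁) (CAlg2.normRed A₁)]
    constructor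
    · intro hb
      have h1 : algebraMap A₁ (CAlg2.red A₁) b = 0 := hinjR (by rw [hb, map_zero])
      exact Ideal.Quotient.eq_zero_iff_mem.mp h1
    · intro hb
      have h1 : algebraMap A₁ (CAlg2.red A₁) b = 0 := Ideal.Quotient.eq_zero_iff_mem.mpr hb
      rw [h1, map_zero]
  let ψ : A₂ →+* CAlg2.normRed A₁ :=
    RingHom.liftOfRightInverse φ (Function.surjInv hs) (Function.rightInverse_surjInv hs)
      ⟨algebraMap A₁ (CAlg2.normRed A₁), by rw [hker]; exact hk⟩
  have hψ : ∀ a : A₁, ψ (φ a) = algebraMap A₁ (CAlg2.normRed A₁) a := fun a =>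
    RingHom.liftOfRightInverse_comp_apply φ (Function.surjInv hs)
      (Function.rightInverse_surjInv hs) _ a
  have hψc : ψ.comp φ = algebraMap A₁ (CAlg2.normRed A₁) := RingHom.ext hψ
  refine Groth.Agent.H13.GUCrit.isGeomUnibranch_of_pi_normal A₂ (CAlg2.normRed A₁) ψ ?_ ?_ p hp ?_
  · have h1 : (ψ.comp φ).IsIntegral := by
      rw [hψc]
      exact algebraMap_isIntegral_iff.mpr inferInstance
    exact RingHom.IsIntegral.tower_top _ _ h1
  · intro z hz
    obtain ⟨a, rfl⟩ := hs z
    have h1 : a ∈ RingHom.ker (algebraMap A₁ (CAlg2.normRed A₁)) := by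
      rw [RingHom.mem_ker, ← hψ]; exact hz
    rw [hker] at h1
    exact mem_nilradical.mpr ((mem_nilradical.mp h1).map φ)
  · intro x
    obtain ⟨n, a, ha⟩ := hpi x
    exact ⟨n, φ a, by rw [hψ]; exact ha⟩

/-- The stalk maps of a surjective embedding of schemes have nil kernel. -/
theorem ker_stalkMap_le_nilradical {X₀ X : Scheme.{u}} (j : X₀ ⟶ X)
    (hj : Topology.IsInducing j) (hsurj : Function.Surjective j) (x₀ : X₀) :
    RingHom.ker (j.stalkMap x₀).hom ≤ nilradical (X.presheaf.stalk (j x₀)) := by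
  intro a ha
  rw [RingHom.mem_ker] at ha
  rw [nilradical_eq_sInf, Ideal.mem_sInf]
  intro P hP
  haveI : P.IsPrime := hP
  obtain ⟨z, hz, rfl⟩ := exists_genPrime_eq' (j x₀) P
  obtain ⟨z₀, rfl⟩ := hsurj z
  have hz₀ : z₀ ⤳ x₀ := hj.specializes_iff.mp hz
  rw [mem_genPrime_iff]
  intro hu
  have h1 := hu.map (j.stalkMap z₀).hom
  have h2 : (j.stalkMap z₀).hom ((X.presheaf.stalkSpecializes hz).hom a) =
      (X₀.presheaf.stalkSpecializes hz₀).hom ((j.stalkMap x₀).hom a) := by
    rw [← CommRingCat.comp_apply, ← CommRingCat.comp_apply]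
    exact congr($(Scheme.Hom.stalkSpecializes_stalkMap j z₀ x₀ hz₀).hom a)
  rw [h2, ha, map_zero] at h1
  exact not_isUnit_zero h1

end Groth.Agent.H17.Flat
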