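import Groth.Agent.S4963
import Groth.Agent.H17.Flat.FibreFieldConv
import Groth.Agent.H17.Flat.FlatQuot
import Groth.Agent.H17.Flat.GUSurj
import Groth.Agent.H58.SkOpen.RedOpen
import Groth.Agent.H54.UnivOpenDed
import Groth.Agent.H25.OpenAt

/-!
# Closed subschemes universally open at a generic point of a geometrically reduced fibre
(EGA IV 15.2.5-type arguments)
-/

set_option autoImplicit false
set_option linter.unusedSectionVars false
set_option linter.style.haveILetI false
universe u
open CategoryTheory CategoryTheory.Limits AlgebraicGeometry Topology TopologicalSpace IsLocalRing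
open Groth.Agent.H15.StalkLoc Groth.Agent.H99.LocFactorial Groth.Agent.H49.FibreStalk

namespace Groth.Agent.H17.Flat

/-- If `c ≫ h` is universally open at `p` then `h` is universally open at `c p`. -/
theorem isUnivOpenAt_of_comp {P X Y : Scheme.{u}} (c : P ⟶ X) (h : X ⟶ Y) (p : P)
    (huo : EGA43.IsUnivOpenAt (c ≫ h) p) : EGA43.IsUnivOpenAt h (c p) := by
  intro Y' g x' hx'
  have sq1 : IsPullback (pullback.snd c (pullback.fst h g)) (pullback.fst c (pullback.fst h g))
      (pullback.fst h g) c := (IsPullback.of_hasPullback c (pullback.fst h g)).flip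
  have sq2 : IsPullback (pullback.snd h g) (pullback.fst h g) g h :=
    (IsPullback.of_hasPullback h g).flip
  have sq := (sq1.paste_horiz sq2).flip
  obtain ⟨q, hq1, hq2⟩ := Scheme.Pullback.exists_preimage_pullback (f := c)
    (g := pullback.fst h g) p x' hx'.symm
  have h1 := Groth.Agent.H25.isOpenAt_of_isPullback huo sq q hq1
  have h2 : EGA43.IsOpenAt ((pullback.snd h g).base ∘ (pullback.snd c (pullback.fst h g)).base) q := by
    refine Groth.Agent.H25.isOpenAt_congr ?_ h1
    funext a
    rfl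
  have h3 := Groth.Agent.H25.isOpenAt_of_comp
    (pullback.snd c (pullback.fst h g)).continuous h2
  rwa [hq2] at h3

/-- If `h ≫ i` is universally open at `p` and `i` is a monomorphism then `h` is universally open
at `p`. -/
theorem isUnivOpenAt_of_comp_mono {X Y₀ Y : Scheme.{u}} (h : X ⟶ Y₀) (i : Y₀ ⟶ Y) [Mono i] (p : X)
    (huo : EGA43.IsUnivOpenAt (h ≫ i) p) : EGA43.IsUnivOpenAt h p := by
  intro Y' g x' hx'
  have sq : IsPullback (pullback.fst h g) (pullback.snd h g) (h ≫ i) (g ≫ i) :=
    IsPullback.of_isLimit (pullbackIsPullbackOfCompMono h g i)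
  exact Groth.Agent.H25.isOpenAt_of_isPullback huo sq x' hx'

/-- **Core**: `f₀ : X₀ ⟶ Y₀`, `c : Z ⟶ X₀` a closed immersion, `c w'` a maximal point of its fibre
at which the fibre is geometrically reduced, `O_{Y₀}` reduced there, and `c ≫ f₀` universally open at
`w'`.  Then `f₀` is flat at `c w'` and `O_{X₀, c w'} ⟶ O_{Z, w'}` is injective. -/
theorem core_flat_and_injective {X₀ Y₀ Z : Scheme.{u}} [IsLocallyNoetherian Y₀] (f₀ : X₀ ⟶ Y₀)
    [LocallyOfFiniteType f₀] (c : Z ⟶ X₀) [IsClosedImmersion c] (w' : Z)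
    (hmax₀ : ∀ t : X₀, t ⤳ c w' → f₀ t = f₀ (c w') → t = c w')
    (hred₀ : FBase.IsGeomReducedAt (f₀.fiberToSpecResidueField (f₀ (c w'))) (f₀.asFiber (c w')))
    (hyred : _root_.IsReduced (Y₀.presheaf.stalk (f₀ (c w'))))
    (huo : EGA43.IsUnivOpenAt (c ≫ f₀) w') :
    (f₀.stalkMap (c w')).hom.Flat ∧ Function.Injective (c.stalkMap w').hom := by
  haveI : IsLocallyNoetherian X₀ := LocallyOfFiniteType.isLocallyNoetherian f₀
  have huo₀ := isUnivOpenAt_of_comp c f₀ w' huo
  have flat₀ := flat_stalkMap_of_generic_fibre_point' f₀ (c w') hmax₀ hred₀ huo₀ hyred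
  refine ⟨flat₀, ?_⟩
  let R := Y₀.presheaf.stalk (f₀ (c w'))
  let C := X₀.presheaf.stalk (c w')
  let B := Z.presheaf.stalk w'
  letI algRC : Algebra R C := (f₀.stalkMap (c w')).hom.toAlgebra
  haveI locRC : IsLocalHom (algebraMap R C) :=
    inferInstanceAs (IsLocalHom (f₀.stalkMap (c w')).hom)
  obtain ⟨hmaxring₀, hgr₀⟩ := fibre_stalk_facts' f₀ (f₀ (c w')) (f₀.asFiber (c w')) (c w')
    (f₀.fiberι_asFiber _) (asFiber_maximal_of_maximal f₀ (c w') hmax₀) hred₀ rfl
  have hcomp : ((c ≫ f₀).stalkMap w').hom =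
      (c.stalkMap w').hom.comp (f₀.stalkMap (c w')).hom := by
    rw [Scheme.Hom.stalkMap_comp]; rfl
  letI algRB : Algebra R B := ((c ≫ f₀).stalkMap w').hom.toAlgebra
  haveI locRB : IsLocalHom (algebraMap R B) :=
    inferInstanceAs (IsLocalHom ((c ≫ f₀).stalkMap w').hom)
  have hcsurj : Function.Surjective (c.stalkMap w').hom := c.stalkMap_surjective w'
  have hRCB : ∀ r : R, algebraMap R B r = (c.stalkMap w').hom (algebraMap R C r) := by
    intro r
    change ((c ≫ f₀).stalkMap w').hom r = _
    rw [hcomp]; rfl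
  have hmaxring' : (maximalIdeal R).map (algebraMap R B) = maximalIdeal B := by
    have h1 : algebraMap R B = (c.stalkMap w').hom.comp (algebraMap R C) := RingHom.ext hRCB
    rw [h1, ← Ideal.map_map, hmaxring₀]
    exact IsLocalRing.map_maximalIdeal_of_surjective _ hcsurj
  have hgr' : Algebra.IsGeometricallyReduced (ResidueField R) (ResidueField B) := by
    let θ : ResidueField C →+* ResidueField B :=
      IsLocalRing.ResidueField.map (c.stalkMap w').hom
    have hθres : ∀ a : C, θ (residue C a) = residue B ((c.stalkMap w').hom a) := fun a => rfl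
    have hθsurj : Function.Surjective θ := by
      intro t
      obtain ⟨b, rfl⟩ := residue_surjective t
      obtain ⟨a, rfl⟩ := hcsurj b
      exact ⟨residue C a, rfl⟩
    let θe : ResidueField C ≃+* ResidueField B := RingEquiv.ofBijective θ ⟨θ.injective, hθsurj⟩
    let g : ResidueField B →ₐ[ResidueField R] ResidueField C :=
      { θe.symm.toRingHom with
        commutes' := fun x => by
          obtain ⟨r, rfl⟩ := residue_surjective x
          change θe.symm (algebraMap (ResidueField R) (ResidueField B) (residue R r)) = _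
          rw [RingEquiv.symm_apply_eq, IsLocalRing.ResidueField.algebraMap_residue,
            IsLocalRing.ResidueField.algebraMap_residue, hRCB]
          rfl }
    exact Algebra.IsGeometricallyReduced.of_injective g θe.symm.injective
  have hmax' : ∀ t : Z, t ⤳ w' → (c ≫ f₀) t = (c ≫ f₀) w' → t = w' := by
    intro t ht hft
    apply c.isEmbedding.injective
    exact hmax₀ (c t) (ht.map c.continuous) hft
  have hred' : FBase.IsGeomReducedAt ((c ≫ f₀).fiberToSpecResidueField ((c ≫ f₀) w'))
      ((c ≫ f₀).asFiber w') :=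
    @isGeomReducedAt_of_fibre_field' _ _ (c ≫ f₀) ((c ≫ f₀) w') ((c ≫ f₀).asFiber w') w'
      ((c ≫ f₀).fiberι_asFiber w') algRB rfl locRB hmaxring' hgr'
  have flat' := flat_stalkMap_of_generic_fibre_point' (c ≫ f₀) w' hmax' hred' huo hyred
  haveI : Module.Flat R B := flat'
  let φ : C →ₐ[R] B := { (c.stalkMap w').hom with commutes' := fun r => (hRCB r).symm }
  have hφ : Function.Surjective φ := hcsurj
  have hinj := injective_of_flat_of_ker_le φ hφ (maximalIdeal R)
    (by rw [hmaxring₀, IsLocalRing.jacobson_eq_maximalIdeal ⊥ bot_ne_top])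
    (by rw [hmaxring₀]; exact IsLocalRing.le_maximalIdeal (RingHom.ker_ne_top _))
  exact hinj

/-- **EGA IV 15.2.5, main step**: let `ι' : Z ⟶ X` be a closed immersion with `Z` reduced, such that
`ι' ≫ f` is universally open at `w'`, where `ι' w'` is a maximal point of its fibre at which the
fibre is geometrically reduced.  Then the fibres of `f` are geometrically reduced at all
generizations of `ι' w'`, and the kernel of `O_{X, ι' w'} ⟶ O_{Z, w'}` is nil. -/
theorem geomReduced_and_ker_le_nilradical {X Y : Scheme.{u}} [IsLocallyNoetherian Y] (f : X ⟶ Y)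
    [LocallyOfFiniteType f] {Z : Scheme.{u}} [IsReduced Z] (ι' : Z ⟶ X) [IsClosedImmersion ι']
    (w' : Z)
    (hwmax : ∀ t : X, t ⤳ ι' w' → f t = f (ι' w') → t = ι' w')
    (hwred : FBase.IsGeomReducedAt (f.fiberToSpecResidueField (f (ι' w'))) (f.asFiber (ι' w')))
    (huo : EGA43.IsUnivOpenAt (ι' ≫ f) w') :
    (∀ ξ : X, ξ ⤳ ι' w' →
      FBase.IsGeomReducedAt (f.fiberToSpecResidueField (f ξ)) (f.asFiber ξ)) ∧
    RingHom.ker (ι'.stalkMap w').hom ≤ nilradical (X.presheaf.stalk (ι' w')) := by
  classical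
  let Y₀ : Scheme.{u} := Y.nilradical.subscheme
  let i : Y₀ ⟶ Y := Y.nilradical.subschemeι
  haveI : IsReduced Y₀ := Groth.Agent.H54.UOD.isReduced_nilradical_subscheme Y
  haveI : Surjective i := ⟨Groth.Agent.H54.UOD.surjective_nilradical_subschemeι Y⟩
  haveI : IsLocallyNoetherian Y₀ := LocallyOfFiniteType.isLocallyNoetherian i
  let X₀ : Scheme.{u} := Limits.pullback f i
  let j : X₀ ⟶ X := Limits.pullback.fst f i
  let f₀ : X₀ ⟶ Y₀ := Limits.pullback.snd f i
  have sq : IsPullback j f₀ f i := IsPullback.of_hasPullback f i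
  haveI : LocallyOfFiniteType f₀ := inferInstanceAs (LocallyOfFiniteType (Limits.pullback.snd f i))
  haveI : LocallyOfFinitePresentation f₀ := by
    rw [HasRingHomProperty.iff_appLE (P := @LocallyOfFinitePresentation)]
    intro U V e
    haveI : IsNoetherianRing Γ(Y₀, U.1) := IsLocallyNoetherian.component_noetherian U
    exact RingHom.FinitePresentation.of_finiteType.mp (f₀.finiteType_appLE U.2 V.2 e)
  haveI : IsClosedImmersion j := inferInstanceAs (IsClosedImmersion (Limits.pullback.fst f i))
  haveI : Surjective j := inferInstanceAs (Surjective (Limits.pullback.fst f i))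
  have hiinj : Function.Injective i := i.isEmbedding.injective
  have hgr : ∀ t : X₀, FBase.IsGeomReducedAt (f₀.fiberToSpecResidueField (f₀.base t)) (f₀.asFiber t) ↔
      FBase.IsGeomReducedAt (f.fiberToSpecResidueField (f.base (j t))) (f.asFiber (j t)) := by
    intro t
    rw [Groth.Agent.H58.SkOpen.geomReducedAt_iff_rkSk, Groth.Agent.H58.SkOpen.geomReducedAt_iff_rkSk]
    exact (Groth.Agent.H58.SkOpen.isStableQ_rkSk 0).baseChange f f₀ j i sq inferInstance t
  have hw : ∀ t : X₀, i (f₀ t) = f (j t) := fun t => by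
    rw [← Scheme.Hom.comp_apply, ← Scheme.Hom.comp_apply, sq.w]
  -- the lift of `ι'` to `X₀`
  obtain ⟨c, hcI, hcj⟩ : ∃ c : Z ⟶ X₀, IsClosedImmersion c ∧ c ≫ j = ι' := by
    haveI : IsClosedImmersion (pullback.fst ι' j) := MorphismProperty.pullback_fst _ _ inferInstance
    haveI : Surjective (pullback.fst ι' j) := MorphismProperty.pullback_fst _ _ inferInstance
    haveI : IsIso (pullback.fst ι' j) := isIso_of_isClosedImmersion_of_surjective _
    haveI : IsClosedImmersion (pullback.snd ι' j) := MorphismProperty.pullback_snd _ _ inferInstance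
    refine ⟨inv (pullback.fst ι' j) ≫ pullback.snd ι' j, inferInstance, ?_⟩
    rw [Category.assoc, ← pullback.condition, IsIso.inv_hom_id_assoc]
  subst hcj
  haveI := hcI
  have hmax₀ : ∀ t : X₀, t ⤳ c w' → f₀ t = f₀ (c w') → t = c w' := by
    intro t ht hft
    apply j.isEmbedding.injective
    refine hwmax (j t) (ht.map j.continuous) ?_
    change f (j t) = f (j (c w'))
    rw [← hw, ← hw, hft]
  have hred₀ : FBase.IsGeomReducedAt (f₀.fiberToSpecResidueField (f₀ (c w'))) (f₀.asFiber (c w')) :=
    (hgr (c w')).mpr hwred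
  have huo' : EGA43.IsUnivOpenAt (c ≫ f₀) w' := by
    apply isUnivOpenAt_of_comp_mono (c ≫ f₀) i w'
    have : (c ≫ f₀) ≫ i = (c ≫ j) ≫ f := by
      rw [Category.assoc, Category.assoc, sq.w]
    rw [this]
    exact huo
  obtain ⟨flat₀, hinj⟩ := core_flat_and_injective f₀ c w' hmax₀ hred₀ inferInstance huo'
  have hO₀ := Groth.Agent.S4963.result f₀
  refine ⟨?_, ?_⟩
  · intro ξ hξ
    obtain ⟨ξ₀, rfl⟩ := j.surjective ξ
    have hξ₀ : ξ₀ ⤳ c w' := j.isEmbedding.toIsInducing.specializes_iff.mp hξ
    exact (hgr ξ₀).mp (hξ₀.mem_open hO₀ ⟨flat₀, hred₀⟩).2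
  · intro a ha
    rw [RingHom.mem_ker] at ha
    have h1 : (c.stalkMap w').hom ((j.stalkMap (c w')).hom a) = 0 := by
      have h2 : ((c ≫ j).stalkMap w').hom a =
          (c.stalkMap w').hom ((j.stalkMap (c w')).hom a) := by
        rw [Scheme.Hom.stalkMap_comp]; rfl
      rw [← h2]; exact ha
    have h3 : (j.stalkMap (c w')).hom a = 0 := hinj (by rw [h1, map_zero])
    exact ker_stalkMap_le_nilradical j j.isEmbedding.toIsInducing j.surjective (c w')
      ((RingHom.mem_ker).mpr h3)

end Groth.Agent.H17.Flat
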