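import Mathlib
import Groth.Prelude.Def_Curv2
import Groth.Agent.H25.SmoothDense
import Groth.Agent.H17.Flat.DVRBase

/-!
# Smoothness at maximal points where the scheme is geometrically reduced

Pointwise variant of `Groth.Agent.H25.SmoothDense.mem_smoothLocus_of_generic` (no global reducedness
assumption): a point of a `k`-scheme locally of finite type without proper generizations, at which
the scheme is geometrically reduced, is a smooth point.
-/

set_option autoImplicit false
set_option linter.style.haveILetI false
universe u
open CategoryTheory CategoryTheory.Limits AlgebraicGeometry TensorProduct IsLocalRing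
attribute [local instance] Curv2.stalkAlgebra

namespace Groth.Agent.H17.Flat

open Groth.Agent.H25.StalkBC Groth.Agent.H25.GeomRedAt Groth.Agent.H25.GeomRegAt
open Groth.Agent.H15.StalkLoc Groth.Agent.H99.LocFactorial

/-- a reduced local ring of a scheme at a point without proper generizations is a field -/
theorem isField_stalk_of_forall_specializes_eq {X : Scheme.{u}} (η : X)
    (hη : ∀ η' : X, η' ⤳ η → η' = η) [IsReduced (X.presheaf.stalk η)] :
    IsField (X.presheaf.stalk η) := by
  rw [IsLocalRing.isField_iff_maximalIdeal_eq]
  have h1 : maximalIdeal (X.presheaf.stalk η) ≤ nilradical (X.presheaf.stalk η) := by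
    rw [nilradical_eq_sInf]
    refine le_sInf ?_
    intro P hP
    haveI : P.IsPrime := hP
    obtain ⟨z, hz, rfl⟩ := exists_genPrime_eq' η P
    obtain rfl := hη z hz
    exact (genPrime_rfl z).ge
  rw [nilradical_eq_zero] at h1
  exact le_bot_iff.mp h1

variable (k : Type u) [Field k] (X : Scheme.{u}) [X.Over (Spec (CommRingCat.of k))]
  [LocallyOfFiniteType (X ↘ (Spec (CommRingCat.of k)))]

/-- maximal points at which the scheme is geometrically reduced lie in the smooth locus -/
theorem mem_smoothLocus_of_forall_specializes_eq (η : X) (hη : ∀ η' : X, η' ⤳ η → η' = η)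
    (hred : Curv2.IsGeomReducedAt k X η) :
    η ∈ (X ↘ Spec (CommRingCat.of k)).smoothLocus := by
  haveI : IsLocallyNoetherian X :=
    LocallyOfFiniteType.isLocallyNoetherian (X ↘ Spec (CommRingCat.of k))
  rw [← Groth.Agent.H25.GeomRegSmooth.isGeomRegularAt_iff_mem_smoothLocus]
  rw [(tfae_geomRegularAt k X η).1]
  intro k' _ _ _ _ x' hx'
  haveI : Algebra.IsGeometricallyReduced k (X.presheaf.stalk η) :=
    (isGeomReducedAt_iff k X η).mp hred
  haveI : IsReduced (X.presheaf.stalk η) := Algebra.isReduced_of_isGeometricallyReduced k
  have hF : IsField (X.presheaf.stalk η) := isField_stalk_of_forall_specializes_eq η hη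
  obtain ⟨Q, hQ, -, ⟨e⟩⟩ := exists_prime_of_point_stalk (X ↘ Spec (CommRingCat.of k)) η
    (stalkAlgebra_eq k X η) k' x' hx'
  haveI : IsReduced (k' ⊗[k] X.presheaf.stalk η) :=
    Groth.Agent.H13.isReduced_tensorProduct_of_isGeometricallyReduced k _ k'
  haveI : IsReduced (X.presheaf.stalk η ⊗[k] k') :=
    isReduced_of_ringEquiv (Algebra.TensorProduct.comm k (X.presheaf.stalk η) k').toRingEquiv
  haveI : IsArtinianRing (X.presheaf.stalk η) := by
    letI := hF.toField
    infer_instance
  haveI : IsArtinianRing (X.presheaf.stalk η ⊗[k] k') :=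
    IsArtinianRing.of_finite (X.presheaf.stalk η) _
  haveI : IsArtinianRing (Localization.AtPrime Q) := inferInstance
  have hLF : IsField (Localization.AtPrime Q) :=
    IsArtinianRing.isField_of_isReduced_of_isLocalRing _
  haveI : IsRegularLocalRing (Localization.AtPrime Q) := by
    letI := hLF.toField
    infer_instance
  exact IsRegularLocalRing.of_ringEquiv e.symm

end Groth.Agent.H17.Flat
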