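import Groth.Agent.S2561
import Groth.Agent.S4963
import Groth.Agent.H17.Flat.RegFibre
import Groth.Agent.H17.Flat.SmoothGen
import Groth.Agent.H17.Flat.GUSurj
import Groth.Agent.H25.FibreSmoothPt
import Groth.Agent.H66.SmoothGUStalk
import Groth.Agent.H52.GeomUnibranchSp
import Groth.Agent.H17.UO.EquidimGU

/-!
# EGA IV 15.2.4-type statement over a base with reduced local ring

`f : X ⟶ Y` locally of finite type, `Y` locally Noetherian, `O_{Y,y}` reduced and geometrically
unibranch, `f` universally open at the generic points of the components of the fibre through `x`,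
the fibre geometrically reduced at `x` and locally integral at `x`.  Then `x` has a smallest
generization (i.e. `O_{X,x}` has a unique minimal prime).
-/

set_option autoImplicit false
set_option linter.style.haveILetI false
universe u

open CategoryTheory AlgebraicGeometry IsLocalRing
open Groth.Agent.H15.StalkLoc Groth.Agent.H99.LocFactorial Groth.Agent.H49.FibreStalk

namespace Groth.Agent.H17.Flat

theorem specializes_of_genPrime_le {X : Scheme.{u}} {x x₁ x₂ : X} (h₁ : x₁ ⤳ x) (h₂ : x₂ ⤳ x)
    (hle : genPrime h₁ ≤ genPrime h₂) : x₁ ⤳ x₂ := by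
  rw [← fromSpecStalk_genPrime h₁, ← fromSpecStalk_genPrime h₂]
  have : (⟨genPrime h₁, inferInstance⟩ : PrimeSpectrum (X.presheaf.stalk x)) ⤳
      ⟨genPrime h₂, inferInstance⟩ := (PrimeSpectrum.le_iff_specializes _ _).mp hle
  exact this.map (X.fromSpecStalk x).continuous

/-- A smallest generization gives a prime nilradical. -/
theorem isPrime_nilradical_of_smallest_generization {X : Scheme.{u}} (x g : X) (hg : g ⤳ x)
    (hmin : ∀ z : X, z ⤳ x → g ⤳ z) : (nilradical (X.presheaf.stalk x)).IsPrime := by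
  have : nilradical (X.presheaf.stalk x) = genPrime hg := by
    apply le_antisymm
    · exact nilradical_le_prime _
    · rw [nilradical_eq_sInf]
      refine le_sInf ?_
      intro P hP
      haveI : P.IsPrime := hP
      obtain ⟨z, hz, rfl⟩ := exists_genPrime_eq' x P
      exact genPrime_mono hz (hmin z hz)
  rw [this]
  infer_instance

/-- At a smooth point over a geometrically unibranch point, the local ring has a unique minimal
prime. -/
theorem isPrime_nilradical_of_mem_smoothLocus {X Y : Scheme.{u}} (f : X ⟶ Y)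
    [LocallyOfFinitePresentation f] (w : X) (hwS : w ∈ f.smoothLocus)
    (hY : CAlg2.IsGeomUnibranch (Y.presheaf.stalk (f.base w))) :
    (nilradical (X.presheaf.stalk w)).IsPrime := by
  have hsm : Smooth (f.smoothLocus.ι ≫ f) :=
    Groth.Agent.H25.FibreSmoothPt.smooth_smoothLocus_ι_comp f
  obtain ⟨w', rfl⟩ : ∃ w' : f.smoothLocus, f.smoothLocus.ι w' = w := ⟨⟨w, hwS⟩, rfl⟩
  have hY' : CAlg2.IsGeomUnibranch (Y.presheaf.stalk ((f.smoothLocus.ι ≫ f) w')) :=
    Groth.Agent.H17.UO.gu_congr rfl hY
  have hGUw' : CAlg2.IsGeomUnibranch ((f.smoothLocus : Scheme.{u}).presheaf.stalk w') :=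
    Groth.Agent.H66.SmoothGU.isGeomUnibranch_stalk_of_smooth (f.smoothLocus.ι ≫ f) w' hY'
  have hUMw' : CAlgX.HasUniqueMinimalPrime ((f.smoothLocus : Scheme.{u}).presheaf.stalk w') :=
    Groth.Agent.H52.GeomUnibranchSp.hasUniqueMinimalPrime_of_isGeomUnibranch
      (U := (f.smoothLocus : Scheme.{u})) w' hGUw'
  have hbij : Function.Bijective (f.smoothLocus.ι.stalkMap w').hom :=
    ConcreteCategory.bijective_of_isIso (f.smoothLocus.ι.stalkMap w')
  have hUMw := Groth.Agent.H52.UnibranchSp.hasUniqueMinimalPrime_of_ringEquiv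
    (RingEquiv.ofBijective _ hbij).symm hUMw'
  exact (Groth.Agent.H14.HensProp.UniqueMin.hasUniqueMinimalPrime_iff_isPrime_nilradical _).mp hUMw

theorem exists_smallest_generization_of_geomUnibranch {X Y : Scheme.{u}} [IsLocallyNoetherian Y]
    (f : X ⟶ Y) [LocallyOfFiniteType f] (x : X)
    (hopen : ∀ z : ↥(f.fiber (f.base x)), f.asFiber x ∈ closure {z} →
      (∀ z' : ↥(f.fiber (f.base x)), z ∈ closure {z'} → z' = z) →
      EGA43.IsUnivOpenAt f ((f.fiberι (f.base x)).base z))
    (hred : FBase.IsGeomReducedAt (f.fiberToSpecResidueField (f.base x)) (f.asFiber x))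
    (hdom : (fibreIdeal f x).IsPrime)
    (hyred : _root_.IsReduced (Y.presheaf.stalk (f.base x)))
    (hY : CAlg2.IsGeomUnibranch (Y.presheaf.stalk (f.base x))) :
    ∃ g : X, g ⤳ x ∧ ∀ z : X, z ⤳ x → g ⤳ z := by
  classical
  haveI : IsLocallyNoetherian X := LocallyOfFiniteType.isLocallyNoetherian f
  haveI : LocallyOfFinitePresentation f := by
    rw [HasRingHomProperty.iff_appLE (P := @LocallyOfFinitePresentation)]
    intro U V e
    haveI : IsNoetherianRing Γ(Y, U.1) := IsLocallyNoetherian.component_noetherian U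
    exact RingHom.FinitePresentation.of_finiteType.mp (f.finiteType_appLE U.2 V.2 e)
  have hflat := Groth.Agent.S2561.result f x hopen hred hyred
  have hO := Groth.Agent.S4963.result f
  -- the generic point of the fibre component through `x`
  haveI := hdom
  obtain ⟨w, hw, hwQ⟩ := exists_genPrime_eq' x (fibreIdeal f x)
  have hfw : f w = f x := map_eq_of_fibreIdeal_le_genPrime f hw hwQ.ge
  obtain ⟨hflatw, hredw⟩ := hw.mem_open hO ⟨hflat, hred⟩
  have hwmax : ∀ w' : X, w' ⤳ w → f w' = f w → w' = w := by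
    intro w' hw' hfw'
    have h3 : fibreIdeal f x ≤ genPrime (hw'.trans hw) :=
      fibreIdeal_le_genPrime_of_map_eq f (hw'.trans hw) (hfw'.trans hfw)
    have h4 : genPrime (hw'.trans hw) ≤ genPrime hw := genPrime_mono hw hw'
    have h5 : genPrime hw ≤ genPrime (hw'.trans hw) := hwQ ▸ h3
    exact eq_of_genPrime_eq (hw'.trans hw) hw (le_antisymm h4 h5)
  -- smoothness at `w`
  haveI : LocallyOfFinitePresentation (f.fiberToSpecResidueField (f w)) :=
    MorphismProperty.pullback_snd _ _ inferInstance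
  let κ := ResidueField (Y.presheaf.stalk (f w))
  letI ov : (f.fiber (f w)).Over (Spec (CommRingCat.of κ)) := ⟨f.fiberToSpecResidueField (f w)⟩
  haveI : LocallyOfFiniteType ((f.fiber (f w)) ↘ Spec (CommRingCat.of κ)) :=
    (inferInstance : LocallyOfFiniteType (f.fiberToSpecResidueField (f w)))
  have hmaxF : ∀ η' : ↥(f.fiber (f w)), η' ⤳ f.asFiber w → η' = f.asFiber w := by
    intro η' hη'
    apply (f.fiberι (f w)).isEmbedding.injective
    rw [f.fiberι_asFiber]
    apply hwmax
    · have := hη'.map (f.fiberι (f w)).continuous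
      rwa [f.fiberι_asFiber] at this
    · exact (f.range_fiberι (f w)).le ⟨η', rfl⟩
  have hG : Curv2.IsGeomReducedAt κ (f.fiber (f w)) (f.asFiber w) := hredw
  have hsmF : f.asFiber w ∈ (f.fiberToSpecResidueField (f w)).smoothLocus :=
    mem_smoothLocus_of_forall_specializes_eq κ (f.fiber (f w)) (f.asFiber w) hmaxF hG
  have hwS : w ∈ f.smoothLocus :=
    Groth.Agent.H25.FibreSmoothPt.mem_smoothLocus_of_flat_of_fibre f w hflatw hsmF
  have hNPw : (nilradical (X.presheaf.stalk w)).IsPrime :=
    isPrime_nilradical_of_mem_smoothLocus f w hwS (Groth.Agent.H17.UO.gu_congr hfw.symm hY)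
  obtain ⟨g, hgw, hgmin⟩ :=
    Groth.Agent.H14.HensProp.EtNbhdMain.exists_smallest_generization w hNPw
  -- all minimal primes of `O_{X,x}` lie in the fibre ideal
  letI algAB : Algebra (Y.presheaf.stalk (f x)) (X.presheaf.stalk x) :=
    (f.stalkMap x).hom.toAlgebra
  haveI : Module.Flat (Y.presheaf.stalk (f x)) (X.presheaf.stalk x) := hflat
  have hALG : ∀ P ∈ minimalPrimes (X.presheaf.stalk x), P ≤ fibreIdeal f x := fun P hP =>
    le_map_maximalIdeal_of_mem_minimalPrimes hdom P hP
  refine ⟨g, hgw.trans hw, fun z hz => ?_⟩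
  obtain ⟨P, hP, hPz⟩ := Ideal.exists_minimalPrimes_le (bot_le : ⊥ ≤ genPrime hz)
  haveI : P.IsPrime := hP.1.1
  obtain ⟨ξ, hξ, rfl⟩ := exists_genPrime_eq' x P
  have h1 : ξ ⤳ z := specializes_of_genPrime_le hξ hz hPz
  have h2 : ξ ⤳ w := specializes_of_genPrime_le hξ hw (by rw [hwQ]; exact hALG _ hP)
  exact (hgmin ξ h2).trans h1

end Groth.Agent.H17.Flat
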