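import Groth.Agent.H17.Flat.RegFibre2
import Groth.Agent.H17.Flat.UniqComp
import Groth.Agent.H17.Chev.FlatLC3
import Groth.Agent.H17.Chev.LocMax
import Groth.Agent.H17.Chev.Equidim7
import Groth.Agent.H17.QFlat.Components

/-!
# Constancy of the fibre dimension near a point of a flat morphism with reduced fibre

`f : X ⟶ Y` flat near `x` (locally of finite presentation, `Y` locally Noetherian), the fibre
reduced at `x`, and all irreducible components of the fibre through `x` of the same dimension `e`.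
Then `x' ↦ dim_{x'} X_{f x'}` is constant equal to `e` on a neighbourhood of `x`, and the maximal
points of that neighbourhood lie over maximal points of `Y` and specialize to `x`.
-/

set_option autoImplicit false
set_option linter.style.haveILetI false
set_option linter.unusedSectionVars false
universe u

open CategoryTheory AlgebraicGeometry IsLocalRing
open Groth.Agent.H15.StalkLoc Groth.Agent.H99.LocFactorial Groth.Agent.H49.FibreStalk
open Groth.Agent.H17.Chev

namespace Groth.Agent.H17.Flat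

/-- `f` flat at `x` with reduced fibre at `x`: every maximal point `ξ` of `X` specializing to `x`
specializes to a maximal point of the fibre through `x`. -/
theorem exists_maximal_fibre_point_of_isMax {X Y : Scheme.{u}} [IsLocallyNoetherian Y]
    (f : X ⟶ Y) [LocallyOfFiniteType f] (x : X) (hflat : (f.stalkMap x).hom.Flat)
    (hred : (fibreIdeal f x).IsRadical) (ξ : X) (hξ : ξ ⤳ x) (hmax : IsMax ξ) :
    ∃ w : X, w ⤳ x ∧ f w = f x ∧ (∀ w' : X, w' ⤳ w → f w' = f w → w' = w) ∧ ξ ⤳ w := by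
  classical
  haveI : IsLocallyNoetherian X := LocallyOfFiniteType.isLocallyNoetherian f
  letI algAB : Algebra (Y.presheaf.stalk (f x)) (X.presheaf.stalk x) :=
    (f.stalkMap x).hom.toAlgebra
  haveI : Module.Flat (Y.presheaf.stalk (f x)) (X.presheaf.stalk x) := hflat
  obtain ⟨P, hP, hPξ⟩ := Ideal.exists_minimalPrimes_le (bot_le : ⊥ ≤ genPrime hξ)
  haveI : P.IsPrime := hP.1.1
  obtain ⟨z, hz, rfl⟩ := exists_genPrime_eq' x P
  have hzξ : z ⤳ ξ := specializes_of_genPrime_le hz hξ hPξ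
  have hξz : ξ ⤳ z := hmax (show ξ ≤ z from hzξ)
  obtain ⟨Q', hQ', hPQ'⟩ := exists_minimalPrimes_ge_of_isRadical
    (R := Y.presheaf.stalk (f x)) (S := X.presheaf.stalk x) (fibreIdeal_ne_top f x) hred
    (genPrime hz) hP
  haveI : Q'.IsPrime := hQ'.1.1
  obtain ⟨w, hw, rfl⟩ := exists_genPrime_eq' x Q'
  have hfw : f w = f x := map_eq_of_fibreIdeal_le_genPrime f hw hQ'.1.2
  refine ⟨w, hw, hfw, ?_, hξz.trans (specializes_of_genPrime_le hz hw hPQ')⟩
  intro w' hw' hfw'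
  have h3 : fibreIdeal f x ≤ genPrime (hw'.trans hw) :=
    fibreIdeal_le_genPrime_of_map_eq f (hw'.trans hw) (hfw'.trans hfw)
  have h4 : genPrime (hw'.trans hw) ≤ genPrime hw := genPrime_mono hw hw'
  have h5 : genPrime hw ≤ genPrime (hw'.trans hw) := hQ'.2 ⟨inferInstance, h3⟩ h4
  exact eq_of_genPrime_eq (hw'.trans hw) hw (le_antisymm h4 h5)

/-- The local fibre dimension at `x` is at most `e` if it is at most `e` at all maximal points of
the fibre specializing to `x`. -/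
theorem fibreDimAt_le_of_forall_maximal {X Y : Scheme.{u}} (f : X ⟶ Y) [LocallyOfFiniteType f]
    (x : X) (e : WithBot ℕ∞)
    (he : ∀ w : X, w ⤳ x → f w = f x → (∀ w' : X, w' ⤳ w → f w' = f w → w' = w) →
      FlatMor.fibreDimAt f w ≤ e) : FlatMor.fibreDimAt f x ≤ e := by
  have hlft : LocallyOfFiniteType (f.fiberToSpecResidueField (f x)) :=
    inferInstanceAs (LocallyOfFiniteType (Limits.pullback.snd f (Y.fromSpecResidueField (f x))))
  haveI : IsLocallyNoetherian (f.fiber (f x)) :=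
    LocallyOfFiniteType.isLocallyNoetherian (f.fiberToSpecResidueField (f x))
  change FlatMor.localDim ↥(f.fiber (f x)) (f.asFiber x) ≤ e
  apply localDim_le_of_forall_irreducibleComponents
  intro Z hZ hxZ
  have hZc : IsClosed Z := isClosed_of_mem_irreducibleComponents Z hZ
  have hZirr : IsIrreducible Z := hZ.1
  obtain ⟨z, hz⟩ : ∃ z, IsGenericPoint z Z := ⟨_, hZirr.isGenericPoint_genericPoint hZc⟩
  have h1 := dim_irreducibleComponent_eq_localDim (Y.residueField (f x))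
    (f.fiberToSpecResidueField (f x)) Z hZ z hz
  have h2 := localDim_fiber_eq_fibreDimAt f (f x) z
  rw [h1, h2]
  have hzmax : IsMax z := isMax_of_isGenericPoint_irreducibleComponent _ Z hZ z hz
  refine he _ ?_ ?_ ?_
  · have h3 : z ⤳ f.asFiber x := hz.specializes hxZ
    have h4 := h3.map (f.fiberι (f x)).continuous
    rwa [f.fiberι_asFiber] at h4
  · exact (f.range_fiberι (f x)).le ⟨z, rfl⟩
  · intro w' hw' hfw'
    have hfz : f ((f.fiberι (f x)).base z) = f x := (f.range_fiberι (f x)).le ⟨z, rfl⟩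
    obtain ⟨z', rfl⟩ : w' ∈ Set.range (f.fiberι (f x)) := by
      rw [f.range_fiberι]; exact hfw'.trans hfz
    have h5 : z' ⤳ z := (f.fiberι (f x)).isEmbedding.isInducing.specializes_iff.mp hw'
    have h6 : z ⤳ z' := hzmax (show z ≤ z' from h5)
    rw [(h5.antisymm h6).eq]

/-- **Constancy of the fibre dimension**. -/
theorem exists_open_fibreDimAt_eq_of_flat_of_reduced {X Y : Scheme.{u}} [IsLocallyNoetherian Y]
    (f : X ⟶ Y) [LocallyOfFinitePresentation f] (V : X.Opens) [Flat (V.ι ≫ f)] (x : X)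
    (hxV : x ∈ V) (hflat : (f.stalkMap x).hom.Flat) (hred : (fibreIdeal f x).IsRadical) (e : ℕ)
    (he : ∀ w : X, w ⤳ x → f w = f x → (∀ w' : X, w' ⤳ w → f w' = f w → w' = w) →
      FlatMor.fibreDimAt f w = e) :
    ∃ N : X.Opens, x ∈ N ∧ N ≤ V ∧ (∀ u ∈ N, FlatMor.fibreDimAt f u = e) ∧
      ∀ ξ ∈ N, IsMax ξ → IsMax (f ξ) ∧ ξ ⤳ x := by
  classical
  haveI : IsLocallyNoetherian X := LocallyOfFiniteType.isLocallyNoetherian f
  have hxe : FlatMor.fibreDimAt f x ≤ e :=
    fibreDimAt_le_of_forall_maximal f x e (fun w h1 h2 h3 => (he w h1 h2 h3).le)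
  have hO₁ := isOpen_setOf_fibreDimAt_le f e
  obtain ⟨O, hxO, hO⟩ := exists_open_forall_exists_isMax X x
  refine ⟨O ⊓ V ⊓ ⟨_, hO₁⟩, ⟨⟨hxO, hxV⟩, hxe⟩, fun u hu => hu.1.2, ?_, ?_⟩
  · rintro u ⟨⟨huO, huV⟩, hue⟩
    refine le_antisymm hue ?_
    obtain ⟨ξ, hξmax, hξx, hξu⟩ := hO u huO
    obtain ⟨w, hw, hfw, hwmax, hξw⟩ :=
      exists_maximal_fibre_point_of_isMax f x hflat hred ξ hξx hξmax
    have hwe := he w hw hfw hwmax
    have hwV : w ∈ V := hw.mem_open V.isOpen hxV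
    have hξV : ξ ∈ V := hξx.mem_open V.isOpen hxV
    have hmaxF : IsMax ((V.ι ≫ f).asFiber ⟨w, hwV⟩) := by
      rw [isMax_asFiber_iff]
      intro t ht hsp
      have h1 : t.1 ⤳ w := (subtype_specializes_iff _ _).mp hsp
      have h2 : f t.1 = f w := ht
      have h3 : t = ⟨w, hwV⟩ := Subtype.ext (hwmax t.1 h1 h2)
      rw [h3]
    obtain ⟨W, hwW, hW⟩ := exists_open_fibreDimAt_eq_of_flat (V.ι ≫ f) ⟨w, hwV⟩ hmaxF
    have hξW : (⟨ξ, hξV⟩ : ↥(V : Scheme.{u})) ∈ W :=
      ((subtype_specializes_iff (⟨ξ, hξV⟩ : ↥V) ⟨w, hwV⟩).mpr hξw).mem_open W.isOpen hwW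
    have h4 := hW _ hξW
    rw [fibreDimAt_ι_comp f V ⟨ξ, hξV⟩, fibreDimAt_ι_comp f V ⟨w, hwV⟩, hwe] at h4
    have hC := isClosed_setOf_le_fibreDimAt f e
    have hξC : ξ ∈ {t : X | ((e : ℕ) : WithBot ℕ∞) ≤ FlatMor.fibreDimAt f t} := h4.ge
    exact hξu.mem_closed hC hξC
  · rintro ξ ⟨⟨hξO, hξV⟩, -⟩ hξmax
    obtain ⟨ξ', hξ'max, hξ'x, hξ'ξ⟩ := hO ξ hξO
    have hξξ' : ξ ⤳ ξ' := hξmax (show ξ ≤ ξ' from hξ'ξ)
    refine ⟨?_, hξξ'.trans hξ'x⟩
    intro y hy
    have h1 : y ⤳ (V.ι ≫ f) ⟨ξ, hξV⟩ := hy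
    obtain ⟨t, ht, hty⟩ := Flat.generalizingMap (V.ι ≫ f) h1
    have h2 : t.1 ⤳ ξ := (subtype_specializes_iff _ _).mp ht
    have h3 : ξ ⤳ t.1 := hξmax (show ξ ≤ t.1 from h2)
    have h4 : f ξ ⤳ f t.1 := h3.map f.continuous
    have h5 : f t.1 = y := hty
    rw [h5] at h4
    exact h4

end Groth.Agent.H17.Flat
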