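import Mathlib
import Groth.Agent.H2.FlatPow
import Groth.Agent.S0390

/-!
# Flatness from flatness at the generic points of a reduced closed fibre

`R → S` a local homomorphism of Noetherian local rings with `S/mS` reduced; if `S_q` is flat over
`R` for every minimal prime `q` of `mS`, then `S` is flat over `R`.
-/

set_option autoImplicit false
set_option linter.unusedSectionVars false
universe u
open scoped TensorProduct
open IsLocalRing Function

namespace Groth.Agent.H17.Flat

variable {R S : Type u} [CommRing R] [CommRing S] [IsLocalRing R] [IsNoetherianRing R]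
  [IsNoetherianRing S] [Algebra R S]

theorem tmul_mem_range_of_mem_map (J : Ideal R) (s : S)
    (hs : s ∈ (maximalIdeal R).map (algebraMap R S)) (a : J) :
    s ⊗ₜ[R] a ∈ LinearMap.range
      ((Submodule.inclusion (Ideal.mul_le_right : maximalIdeal R * J ≤ J)).lTensor S) := by
  have hs' : s ∈ (maximalIdeal R • ⊤ : Submodule R S) := by
    rw [Ideal.smul_top_eq_map]; exact hs
  refine Submodule.smul_induction_on hs' ?_ ?_
  · intro μ hμ t _
    refine ⟨t ⊗ₜ[R] ⟨μ * a.1, Ideal.mul_mem_mul hμ a.2⟩, ?_⟩
    rw [LinearMap.lTensor_tmul, TensorProduct.smul_tmul]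
    rfl
  · intro x y hx hy
    rw [TensorProduct.add_tmul]
    exact Submodule.add_mem _ hx hy

theorem exists_lift_of_lTensor_eq_zero
    (hred : ((maximalIdeal R).map (algebraMap R S)).IsRadical)
    (hflat : ∀ (q : Ideal S) [q.IsPrime],
      q ∈ ((maximalIdeal R).map (algebraMap R S)).minimalPrimes →
      Module.Flat R (Localization.AtPrime q))
    (J : Ideal R) (x : S ⊗[R] J) (hx : J.subtype.lTensor S x = 0) :
    ∃ y : S ⊗[R] (maximalIdeal R * J : Ideal R),
      (Submodule.inclusion (Ideal.mul_le_right : maximalIdeal R * J ≤ J)).lTensor S y = x := by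
  classical
  set m := maximalIdeal R with hm
  let k := ResidueField R
  -- minimal generators
  let b := Module.finBasis k (k ⊗[R] J)
  have hsurj : Surjective (TensorProduct.mk R k J 1) :=
    TensorProduct.mk_surjective R J k Ideal.Quotient.mk_surjective
  choose a ha using fun i => hsurj (b i)
  have hspan : Submodule.span R (Set.range a) = ⊤ :=
    IsLocalRing.span_eq_top_of_tmul_eq_basis a b ha
  have hindep : ∀ c : Fin (Module.finrank k (k ⊗[R] J)) → R, ∑ i, c i • a i = 0 →
      ∀ i, c i ∈ m := by
    intro c hc i
    have h1 : ∑ i, (residue R (c i)) • b i = 0 := by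
      have := congrArg (TensorProduct.mk R k J 1) hc
      rw [map_sum, map_zero] at this
      rw [← this]
      refine Finset.sum_congr rfl fun i _ => ?_
      rw [map_smul, ha i]
      rw [← algebraMap_smul k (c i) (b i)]
      rfl
    have h2 := Fintype.linearIndependent_iff.mp b.linearIndependent
      (fun i => residue R (c i)) h1 i
    exact (IsLocalRing.residue_eq_zero_iff _).mp h2
  -- representation of `x`
  have hrep : ∀ x : S ⊗[R] J, ∃ s : Fin (Module.finrank k (k ⊗[R] J)) → S,
      x = ∑ i, s i ⊗ₜ[R] a i := by
    intro x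
    induction x using TensorProduct.induction_on with
    | zero => exact ⟨0, by simp⟩
    | tmul t j =>
      have hj : j ∈ Submodule.span R (Set.range a) := by rw [hspan]; trivial
      obtain ⟨c, hc⟩ := (Submodule.mem_span_range_iff_exists_fun R).mp hj
      refine ⟨fun i => c i • t, ?_⟩
      rw [← hc, TensorProduct.tmul_sum]
      refine Finset.sum_congr rfl fun i _ => ?_
      rw [TensorProduct.tmul_smul, TensorProduct.smul_tmul']
    | add x y hx hy =>
      obtain ⟨s, rfl⟩ := hx
      obtain ⟨s', rfl⟩ := hy
      refine ⟨s + s', ?_⟩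
      rw [← Finset.sum_add_distrib]
      refine Finset.sum_congr rfl fun i _ => ?_
      rw [Pi.add_apply, TensorProduct.add_tmul]
  obtain ⟨s, rfl⟩ := hrep x
  -- the relation in `S`
  have hrel : ∑ i, ((a i : J) : R) • s i = 0 := by
    have := congrArg (TensorProduct.rid R S) hx
    rw [map_sum, map_zero, map_sum] at this
    rw [← this]
    refine Finset.sum_congr rfl fun i _ => ?_
    rw [LinearMap.lTensor_tmul, TensorProduct.rid_tmul]
    rfl
  -- each `s i` lies in `mS`
  have hs : ∀ i, s i ∈ m.map (algebraMap R S) := by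
    intro i
    rw [← hred.radical, ← Ideal.sInf_minimalPrimes, Ideal.mem_sInf]
    intro q hq
    have hqp : q.IsPrime := hq.1.1
    have := hflat q hq
    obtain ⟨κ, c, y, h1, h2⟩ := Module.Flat.isTrivialRelation_of_sum_smul_eq_zero (R := R)
      (M := Localization.AtPrime q) (f := fun i => ((a i : J) : R))
      (x := fun i => algebraMap S (Localization.AtPrime q) (s i)) (by
        have := congrArg (algebraMap S (Localization.AtPrime q)) hrel
        rw [map_sum, map_zero] at this
        rw [← this]
        refine Finset.sum_congr rfl fun i _ => ?_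
        rw [Algebra.smul_def, Algebra.smul_def, map_mul, ← IsScalarTower.algebraMap_apply])
    have hc : ∀ l i, c i l ∈ m := by
      intro l
      apply hindep (fun i => c i l)
      apply Subtype.ext
      rw [Submodule.coe_sum, Submodule.coe_zero, ← h2 l]
      refine Finset.sum_congr rfl fun i _ => ?_
      rw [Submodule.coe_smul, smul_eq_mul, mul_comm]
    have hmem : algebraMap S (Localization.AtPrime q) (s i) ∈
        maximalIdeal (Localization.AtPrime q) := by
      have h1i : algebraMap S (Localization.AtPrime q) (s i) = ∑ j, c i j • y j := h1 i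
      rw [h1i]
      refine Ideal.sum_mem _ fun l _ => ?_
      rw [Algebra.smul_def]
      refine Ideal.mul_mem_right _ _ ?_
      rw [IsScalarTower.algebraMap_apply R S (Localization.AtPrime q),
        IsLocalization.AtPrime.to_map_mem_maximal_iff (Localization.AtPrime q) q]
      exact hq.1.2 (Ideal.mem_map_of_mem _ (hc l i))
    exact (IsLocalization.AtPrime.to_map_mem_maximal_iff (Localization.AtPrime q) q _).mp hmem
  exact Submodule.sum_mem _ fun i _ => tmul_mem_range_of_mem_map J (s i) (hs i) (a i)

/-- **Flatness from flatness at the generic points of a reduced closed fibre.** -/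
theorem flat_of_flat_at_generic_fibre [IsLocalRing S] [IsLocalHom (algebraMap R S)]
    (hred : IsReduced (S ⧸ (maximalIdeal R).map (algebraMap R S)))
    (hflat : ∀ (q : Ideal S) [q.IsPrime],
      q ∈ ((maximalIdeal R).map (algebraMap R S)).minimalPrimes →
      Module.Flat R (Localization.AtPrime q)) :
    Module.Flat R S := by
  set m := maximalIdeal R with hm
  have hrad : (m.map (algebraMap R S)).IsRadical :=
    (Ideal.isRadical_iff_quotient_reduced _).mpr hred
  apply Groth.Agent.S0390.result (S := S)
  rw [← LinearMap.lTensor_inj_iff_rTensor_inj, injective_iff_map_eq_zero]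
  intro x hx
  -- successive lifts
  have key : ∀ j : ℕ, ∃ y : S ⊗[R] (m ^ (j + 1) : Ideal R),
      (Submodule.inclusion (Ideal.pow_le_self (Nat.succ_ne_zero j) : m ^ (j + 1) ≤ m)).lTensor S y
        = x := by
    intro j
    induction j with
    | zero =>
      have h : m ≤ m ^ (0 + 1) := by simp
      refine ⟨(Submodule.inclusion h).lTensor S x, ?_⟩
      rw [← LinearMap.comp_apply, ← LinearMap.lTensor_comp]
      have : Submodule.inclusion (Ideal.pow_le_self (Nat.succ_ne_zero 0) : m ^ (0 + 1) ≤ m) ∘ₗ
          Submodule.inclusion h = LinearMap.id := by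
        ext a; rfl
      rw [this, LinearMap.lTensor_id, LinearMap.id_apply]
    | succ j ih =>
      obtain ⟨y₀, hy₀⟩ := ih
      have hy₀' : (m ^ (j + 1)).subtype.lTensor S y₀ = 0 := by
        have : (m ^ (j + 1)).subtype = m.subtype ∘ₗ
            Submodule.inclusion (Ideal.pow_le_self (Nat.succ_ne_zero j) : m ^ (j + 1) ≤ m) := by
          ext a; rfl
        rw [this, LinearMap.lTensor_comp, LinearMap.comp_apply, hy₀, hx]
      obtain ⟨y₁, hy₁⟩ := exists_lift_of_lTensor_eq_zero hrad hflat (m ^ (j + 1)) y₀ hy₀'
      have h : m * m ^ (j + 1) ≤ m ^ (j + 1 + 1) := (pow_succ' m (j + 1)).ge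
      refine ⟨(Submodule.inclusion h).lTensor S y₁, ?_⟩
      rw [← hy₀, ← hy₁, ← LinearMap.comp_apply, ← LinearMap.lTensor_comp, ← LinearMap.comp_apply,
        ← LinearMap.lTensor_comp]
      congr 1
  -- Krull intersection
  have hI : m.map (algebraMap R S) ≤ Ideal.jacobson ⊥ := by
    rw [IsLocalRing.jacobson_eq_maximalIdeal ⊥ bot_ne_top]
    exact IsLocalRing.map_maximalIdeal_le (algebraMap R S)
  have hfin : Module.Finite S (S ⊗[R] m) := Groth.Agent.H2.finite_tensorProduct_of_finite
  have hkrull := Ideal.iInf_pow_smul_eq_bot_of_le_jacobson (m.map (algebraMap R S))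
    (M := S ⊗[R] m) hI
  suffices hx' : x ∈ (⨅ i : ℕ, (m.map (algebraMap R S)) ^ i • ⊤ : Submodule S (S ⊗[R] m)) by
    rw [hkrull] at hx'
    exact (Submodule.mem_bot S).mp hx'
  rw [Submodule.mem_iInf]
  intro j
  obtain ⟨y, hy⟩ := key j
  rw [← hy]
  refine Groth.Agent.H2.lTensor_inclusion_mem_smul_top m j m (m ^ (j + 1)) ?_ _ y
  rw [smul_eq_mul, ← pow_succ]

end Groth.Agent.H17.Flat
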