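import Mathlib

/-!
# Reducedness ascends along flat maps with reduced fibres over the minimal primes
-/

set_option autoImplicit false
set_option linter.style.haveILetI false

namespace Groth.Agent.H17.Flat

open scoped nonZeroDivisors

/-- In a reduced ring, an element lying in no minimal prime is a nonzerodivisor. -/
theorem mem_nonZeroDivisors_of_forall_notMem_minimalPrimes {A : Type*} [CommRing A] [IsReduced A]
    {a : A} (ha : ∀ p ∈ minimalPrimes A, a ∉ p) : a ∈ A⁰ := by
  rw [mem_nonZeroDivisors_iff_right]
  intro c hc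
  have hc' : c ∈ sInf (minimalPrimes A) := by
    rw [Ideal.mem_sInf]
    intro p hp
    haveI : p.IsPrime := hp.1.1
    have : c * a ∈ p := hc ▸ p.zero_mem
    exact (Ideal.IsPrime.mem_or_mem inferInstance this).resolve_right (ha p hp)
  have h0 : sInf (minimalPrimes A) = (⊥ : Ideal A) := by
    rw [minimalPrimes, Ideal.sInf_minimalPrimes, Ideal.radical_bot_of_isReduced]
  rw [h0] at hc'
  exact hc'

/-- Let `A → B` be flat with `A` reduced with finitely many minimal primes. If `B_Q` is reduced
for every prime `Q` of `B` lying over a minimal prime of `A`, then `B` is reduced. -/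
theorem isReduced_of_flat_of_forall_minimal {A B : Type*} [CommRing A] [CommRing B] [Algebra A B]
    [Module.Flat A B] [IsReduced A] (hfin : (minimalPrimes A).Finite)
    (h : ∀ (Q : Ideal B) [Q.IsPrime], Q.comap (algebraMap A B) ∈ minimalPrimes A →
      IsReduced (Localization.AtPrime Q)) : IsReduced B := by
  classical
  refine ⟨fun b hb => ?_⟩
  -- the annihilator of `b` in `A`
  let J : Ideal A := (Submodule.span A {b}).annihilator
  have hJ : ∀ a : A, a ∈ J ↔ a • b = 0 := fun a => Submodule.mem_annihilator_span_singleton _ _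
  let I : Ideal B := (Submodule.span B {b}).annihilator
  have hI : ∀ t : B, t ∈ I ↔ t * b = 0 := fun t => Submodule.mem_annihilator_span_singleton _ _
  have key : ∀ p ∈ minimalPrimes A, ¬ J ≤ p := by
    intro p hp hJp
    haveI : p.IsPrime := hp.1.1
    have hdis : Disjoint (I : Set B) (Algebra.algebraMapSubmonoid B p.primeCompl : Set B) := by
      rw [Set.disjoint_left]
      rintro s hsI ⟨a, ha, rfl⟩
      have : a ∈ J := by
        rw [hJ, Algebra.smul_def]; exact (hI _).mp hsI
      exact ha (hJp this)
    obtain ⟨Q, hQprime, hIQ, hQdis⟩ := Ideal.exists_le_prime_disjoint I _ hdis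
    have hQp : Q.comap (algebraMap A B) ≤ p := by
      intro a ha
      by_contra hap
      exact Set.disjoint_left.mp hQdis ha ⟨a, hap, rfl⟩
    have hQeq : Q.comap (algebraMap A B) = p :=
      le_antisymm hQp (hp.2 ⟨inferInstance, bot_le⟩ hQp)
    haveI := h Q (hQeq ▸ hp)
    have hb0 : algebraMap B (Localization.AtPrime Q) b = 0 :=
      IsReduced.eq_zero _ (hb.map _)
    obtain ⟨t, ht⟩ := (IsLocalization.map_eq_zero_iff Q.primeCompl _ b).mp hb0
    exact t.2 (hIQ ((hI _).mpr ht))
  have hnot : ¬ ((J : Set A) ⊆ ⋃ p ∈ (hfin.toFinset : Set (Ideal A)), (p : Set A)) := by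
    intro hsub
    obtain ⟨p, hp, hJp⟩ := (Ideal.subset_union_prime (f := fun p : Ideal A => p) ⊥ ⊥
      (fun p hp _ _ => ((Set.Finite.mem_toFinset hfin).mp hp).1.1)).mp hsub
    exact key p ((Set.Finite.mem_toFinset hfin).mp hp) hJp
  obtain ⟨a, haJ, ha⟩ := Set.not_subset.mp hnot
  have ha' : ∀ p ∈ minimalPrimes A, a ∉ p := by
    intro p hp hap
    exact ha (Set.mem_biUnion (show p ∈ (hfin.toFinset : Set (Ideal A)) from
      (Set.Finite.mem_toFinset hfin).mpr hp) hap)
  have hreg : IsSMulRegular B a :=
    Module.Flat.isSMulRegular_of_nonZeroDivisors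
      (mem_nonZeroDivisors_of_forall_notMem_minimalPrimes ha')
  exact hreg (by change a • b = a • 0; rw [smul_zero]; exact (hJ a).mp haJ)

end Groth.Agent.H17.Flat
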