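import Groth.Agent.H17.Flat.RedFlat
import Groth.Agent.H17.Flat.DVRBase
import Groth.Agent.H25.GeomRedAt
import Groth.Prelude.Def_FDesc

/-!
# Reducedness of the local ring of the total space of a flat morphism with geometrically reduced
fibres over a reduced base (EGA IV 15.2.3, reducedness part)
-/

set_option autoImplicit false
set_option linter.style.haveILetI false
universe u

open CategoryTheory AlgebraicGeometry IsLocalRing
open Groth.Agent.H15.StalkLoc Groth.Agent.H99.LocFactorial Groth.Agent.H49.FibreStalk

namespace Groth.Agent.H17.Flat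

/-- The localization of a reduced ring at a minimal prime is a field: its maximal ideal is zero. -/
theorem maximalIdeal_eq_bot_of_isLocalization_minimal {A : Type u} [CommRing A] [IsReduced A]
    (p : Ideal A) [p.IsPrime] (hp : p ∈ minimalPrimes A) (L : Type u) [CommRing L] [Algebra A L]
    [IsLocalization.AtPrime L p] [IsLocalRing L] : maximalIdeal L = ⊥ := by
  haveI : IsReduced L := isReduced_localizationPreserves p.primeCompl L inferInstance
  have h := IsLocalization.AtPrime.radical_map_of_mem_minimalPrimes (A := L) p ⊥ hp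
  rw [Ideal.map_bot, Ideal.radical_bot_of_isReduced,
    IsLocalization.AtPrime.map_eq_maximalIdeal p L] at h
  exact h.symm

variable {X Y : Scheme.{u}}

/-- The local ring of the fibre: `O_{X,x} ⧸ m_{f x} O_{X,x}` is reduced when the fibre is
geometrically reduced at `x`. -/
theorem isReduced_quotient_fibreIdeal (f : X ⟶ Y) (x : X)
    (hred : FBase.IsGeomReducedAt (f.fiberToSpecResidueField (f.base x)) (f.asFiber x)) :
    IsReduced (X.presheaf.stalk x ⧸ fibreIdeal f x) := by
  let κy := ResidueField (Y.presheaf.stalk (f x))
  letI ov : (f.fiber (f x)).Over (Spec (CommRingCat.of κy)) := ⟨f.fiberToSpecResidueField (f x)⟩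
  have hG : Curv2.IsGeomReducedAt κy (f.fiber (f x)) (f.asFiber x) := hred
  letI := Curv2.stalkAlgebra κy (f.fiber (f x)) (f.asFiber x)
  have hGR : Algebra.IsGeometricallyReduced κy ((f.fiber (f x)).presheaf.stalk (f.asFiber x)) :=
    (Groth.Agent.H25.GeomRedAt.isGeomReducedAt_iff κy (f.fiber (f x)) (f.asFiber x)).mp hG
  haveI : IsReduced ((f.fiber (f x)).presheaf.stalk (f.asFiber x)) :=
    Algebra.isReduced_of_isGeometricallyReduced κy
  let e := quotientEquivStalkAsFiber f x
  exact isReduced_of_injective e.toRingHom e.injective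

/-- If `O_{Y,f z}` is a field and the fibre through `z` is geometrically reduced at `z`, then
`O_{X,z}` is reduced. -/
theorem isReduced_stalk_of_maximalIdeal_eq_bot (f : X ⟶ Y) (z : X)
    (h0 : maximalIdeal (Y.presheaf.stalk (f z)) = ⊥)
    (hred : FBase.IsGeomReducedAt (f.fiberToSpecResidueField (f.base z)) (f.asFiber z)) :
    IsReduced (X.presheaf.stalk z) := by
  haveI := isReduced_quotient_fibreIdeal f z hred
  have hbot : fibreIdeal f z = ⊥ := by
    change Ideal.map _ (maximalIdeal (Y.presheaf.stalk (f z))) = ⊥
    rw [h0, Ideal.map_bot]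
  refine isReduced_of_injective (Ideal.Quotient.mk (fibreIdeal f z)) ?_
  rw [RingHom.injective_iff_ker_eq_bot, Ideal.mk_ker]
  exact hbot

/-- **Reducedness ascends**: if `f` is flat at `x`, `O_{Y,f x}` is reduced with finitely many
minimal primes and the fibres of `f` are geometrically reduced at every generization of `x`, then
`O_{X,x}` is reduced. -/
theorem isReduced_stalk_of_flat (f : X ⟶ Y) (x : X) (hflat : (f.stalkMap x).hom.Flat)
    (hy : IsReduced (Y.presheaf.stalk (f x)))
    (hfin : (minimalPrimes (Y.presheaf.stalk (f x))).Finite)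
    (hgr : ∀ z : X, z ⤳ x →
      FBase.IsGeomReducedAt (f.fiberToSpecResidueField (f.base z)) (f.asFiber z)) :
    IsReduced (X.presheaf.stalk x) := by
  letI algAB : Algebra (Y.presheaf.stalk (f x)) (X.presheaf.stalk x) :=
    (f.stalkMap x).hom.toAlgebra
  haveI : Module.Flat (Y.presheaf.stalk (f x)) (X.presheaf.stalk x) := hflat
  refine isReduced_of_flat_of_forall_minimal hfin ?_
  intro Q hQ hQmin
  obtain ⟨z, hz, rfl⟩ := exists_genPrime_eq' x Q
  have hcomap : (genPrime hz).comap (algebraMap (Y.presheaf.stalk (f x)) (X.presheaf.stalk x)) =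
      genPrime (f.base.hom.map_specializes hz) := comap_genPrime f hz
  rw [hcomap] at hQmin
  have h0 : maximalIdeal (Y.presheaf.stalk (f z)) = ⊥ := by
    letI := (Y.presheaf.stalkSpecializes (f.base.hom.map_specializes hz)).hom.toAlgebra
    haveI := isLocalization_stalkSpecializes (f.base.hom.map_specializes hz)
    exact maximalIdeal_eq_bot_of_isLocalization_minimal _ hQmin _
  haveI hz_red : IsReduced (X.presheaf.stalk z) :=
    isReduced_stalk_of_maximalIdeal_eq_bot f z h0 (hgr z hz)
  letI := (X.presheaf.stalkSpecializes hz).hom.toAlgebra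
  haveI := isLocalization_stalkSpecializes hz
  let e : Localization.AtPrime (genPrime hz) ≃ₐ[X.presheaf.stalk x] X.presheaf.stalk z :=
    IsLocalization.algEquiv (genPrime hz).primeCompl _ _
  exact isReduced_of_injective e.toRingEquiv.toRingHom e.injective

end Groth.Agent.H17.Flat
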