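import Mathlib

/-!
# Flat local algebras with reduced closed fibre

`R → S` flat, `R` Noetherian local, `S` Noetherian local.  An element of `S` which is a
nonzerodivisor modulo `mS` is a nonzerodivisor of `S`.  Consequently, if `S/mS` is reduced, every
minimal prime of `S` is contained in a minimal prime of `mS`.
-/

set_option autoImplicit false
set_option linter.unusedSectionVars false
universe u
open scoped TensorProduct
open IsLocalRing Function

namespace Groth.Agent.H17.Flat

variable {R S : Type u} [CommRing R] [CommRing S] [IsLocalRing R] [IsNoetherianRing R]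
  [Algebra R S]

/-- The graded step: if `s` is a nonzerodivisor modulo `mS`, `b ∈ JS` and `s b ∈ mJS` then
`b ∈ mJS`. -/
theorem mem_map_mul_of_mul_mem' [Module.Flat R S] (J : Ideal R) (s b : S)
    (hs : ∀ t : S, s * t ∈ (maximalIdeal R).map (algebraMap R S) →
      t ∈ (maximalIdeal R).map (algebraMap R S))
    (hb : b ∈ J.map (algebraMap R S))
    (hsb : s * b ∈ (maximalIdeal R * J).map (algebraMap R S)) :
    b ∈ (maximalIdeal R * J).map (algebraMap R S) := by
  classical
  set m := maximalIdeal R with hm
  set Q := m.map (algebraMap R S) with hQdef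
  let k := ResidueField R
  -- minimal generators of `J`
  let bas := Module.finBasis k (k ⊗[R] J)
  have hsurj : Surjective (TensorProduct.mk R k J 1) :=
    TensorProduct.mk_surjective R J k Ideal.Quotient.mk_surjective
  choose a ha using fun i => hsurj (bas i)
  have hspan : Submodule.span R (Set.range a) = ⊤ :=
    IsLocalRing.span_eq_top_of_tmul_eq_basis a bas ha
  have hindep : ∀ c : Fin (Module.finrank k (k ⊗[R] J)) → R, ∑ i, c i • a i = 0 →
      ∀ i, c i ∈ m := by
    intro c hc i
    have h1 : ∑ i, (residue R (c i)) • bas i = 0 := by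
      have := congrArg (TensorProduct.mk R k J 1) hc
      rw [map_sum, map_zero] at this
      rw [← this]
      refine Finset.sum_congr rfl fun i _ => ?_
      rw [map_smul, ha i]
      rw [← algebraMap_smul k (c i) (bas i)]
      rfl
    have h2 := Fintype.linearIndependent_iff.mp bas.linearIndependent
      (fun i => residue R (c i)) h1 i
    exact (IsLocalRing.residue_eq_zero_iff _).mp h2
  -- every element of `J` is a combination of the `a i`
  have hJrep : ∀ j : J, ∃ c : Fin (Module.finrank k (k ⊗[R] J)) → R, ∑ i, c i • a i = j := by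
    intro j
    have hj : j ∈ Submodule.span R (Set.range a) := by rw [hspan]; trivial
    exact (Submodule.mem_span_range_iff_exists_fun R).mp hj
  -- representation of elements of `JS`
  have hrep : ∀ v ∈ J.map (algebraMap R S), ∃ t : Fin (Module.finrank k (k ⊗[R] J)) → S,
      v = ∑ i, ((a i : J) : R) • t i := by
    intro v hv
    have hv' : v ∈ (J • ⊤ : Submodule R S) := by
      rw [Ideal.smul_top_eq_map]; exact hv
    refine Submodule.smul_induction_on hv' ?_ ?_
    · intro j hj t _
      obtain ⟨c, hc⟩ := hJrep ⟨j, hj⟩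
      refine ⟨fun i => c i • t, ?_⟩
      have hj' : j = ∑ i, c i * ((a i : J) : R) := by
        have := congrArg (Subtype.val) hc
        rw [Submodule.coe_sum] at this
        change _ = j at this
        rw [← this]
        refine Finset.sum_congr rfl fun i _ => ?_
        rw [Submodule.coe_smul, smul_eq_mul]
      rw [hj', Finset.sum_smul]
      refine Finset.sum_congr rfl fun i _ => ?_
      rw [mul_smul, smul_comm]
    · rintro x y ⟨t, rfl⟩ ⟨t', rfl⟩
      refine ⟨t + t', ?_⟩
      rw [← Finset.sum_add_distrib]
      refine Finset.sum_congr rfl fun i _ => ?_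
      rw [Pi.add_apply, smul_add]
  -- representation of elements of `mJS`
  have hrep' : ∀ v ∈ (m * J).map (algebraMap R S),
      ∃ c : Fin (Module.finrank k (k ⊗[R] J)) → S, (∀ i, c i ∈ Q) ∧
        v = ∑ i, ((a i : J) : R) • c i := by
    intro v hv
    rw [Ideal.map_mul] at hv
    refine Submodule.mul_induction_on hv ?_ ?_
    · intro u hu w hw
      obtain ⟨t, rfl⟩ := hrep w hw
      refine ⟨fun i => u * t i, fun i => Ideal.mul_mem_right _ _ hu, ?_⟩
      rw [Finset.mul_sum]
      refine Finset.sum_congr rfl fun i _ => ?_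
      rw [mul_smul_comm]
    · rintro x y ⟨c, hc, rfl⟩ ⟨c', hc', rfl⟩
      refine ⟨c + c', fun i => Ideal.add_mem _ (hc i) (hc' i), ?_⟩
      rw [← Finset.sum_add_distrib]
      refine Finset.sum_congr rfl fun i _ => ?_
      rw [Pi.add_apply, smul_add]
  obtain ⟨t, rfl⟩ := hrep b hb
  obtain ⟨c, hc, hsb'⟩ := hrep' _ hsb
  -- the relation
  have hrel : ∑ i, ((a i : J) : R) • (s * t i - c i) = 0 := by
    have h1 : ∑ i, ((a i : J) : R) • (s * t i - c i) =
        s * ∑ i, ((a i : J) : R) • t i - ∑ i, ((a i : J) : R) • c i := by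
      rw [Finset.mul_sum, ← Finset.sum_sub_distrib]
      refine Finset.sum_congr rfl fun i _ => ?_
      rw [smul_sub, mul_smul_comm]
    rw [h1, hsb', sub_self]
  obtain ⟨κ, α, y, h1, h2⟩ := Module.Flat.isTrivialRelation_of_sum_smul_eq_zero (R := R)
    (M := S) (f := fun i => ((a i : J) : R)) (x := fun i => s * t i - c i) hrel
  have hα : ∀ l i, α i l ∈ m := by
    intro l
    apply hindep (fun i => α i l)
    apply Subtype.ext
    rw [Submodule.coe_sum, Submodule.coe_zero, ← h2 l]
    refine Finset.sum_congr rfl fun i _ => ?_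
    rw [Submodule.coe_smul, smul_eq_mul, mul_comm]
  have ht : ∀ i, t i ∈ Q := by
    intro i
    have h3 : s * t i - c i ∈ Q := by
      have h1i : s * t i - c i = ∑ j, α i j • y j := h1 i
      rw [h1i]
      refine Ideal.sum_mem _ fun l _ => ?_
      rw [Algebra.smul_def]
      exact Ideal.mul_mem_right _ _ (Ideal.mem_map_of_mem _ (hα l i))
    have h4 : s * t i ∈ Q := by
      have := Ideal.add_mem _ h3 (hc i)
      rwa [sub_add_cancel] at this
    exact hs _ h4
  refine Ideal.sum_mem _ fun i _ => ?_
  rw [Algebra.smul_def, mul_comm m J, Ideal.map_mul]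
  exact Ideal.mul_mem_mul (Ideal.mem_map_of_mem _ (a i).2) (ht i)

/-- An element of `S` which is a nonzerodivisor modulo `mS` is a nonzerodivisor of `S`. -/
theorem mem_nonZeroDivisors_of_forall_mul_mem [Module.Flat R S] [IsNoetherianRing S]
    [IsLocalRing S] (hne : (maximalIdeal R).map (algebraMap R S) ≠ ⊤) (s : S)
    (hs : ∀ t : S, s * t ∈ (maximalIdeal R).map (algebraMap R S) →
      t ∈ (maximalIdeal R).map (algebraMap R S)) : s ∈ nonZeroDivisors S := by
  rw [mem_nonZeroDivisors_iff_right]
  intro b hb
  have hsb : s * b = 0 := by rw [mul_comm]; exact hb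
  have key : ∀ n : ℕ, b ∈ (maximalIdeal R ^ n).map (algebraMap R S) := by
    intro n
    induction n with
    | zero => rw [pow_zero, Ideal.one_eq_top, Ideal.map_top]; trivial
    | succ n ih =>
      rw [pow_succ']
      refine mem_map_mul_of_mul_mem' _ s b hs ih ?_
      rw [hsb]; exact Ideal.zero_mem _
  have hkrull := Ideal.iInf_pow_eq_bot_of_isLocalRing
    ((maximalIdeal R).map (algebraMap R S)) hne
  have hmem : b ∈ (⨅ i : ℕ, ((maximalIdeal R).map (algebraMap R S)) ^ i : Ideal S) := by
    rw [Ideal.mem_iInf]
    intro n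
    rw [← Ideal.map_pow]
    exact key n
  rw [hkrull] at hmem
  exact hmem

/-- **Every minimal prime of `S` lies in a minimal prime of `mS`** when `R → S` is flat and `mS` is
radical. -/
theorem exists_minimalPrimes_ge_of_isRadical [Module.Flat R S] [IsNoetherianRing S]
    [IsLocalRing S] (hne : (maximalIdeal R).map (algebraMap R S) ≠ ⊤)
    (hrad : ((maximalIdeal R).map (algebraMap R S)).IsRadical) (P : Ideal S)
    (hP : P ∈ minimalPrimes S) :
    ∃ Q' ∈ ((maximalIdeal R).map (algebraMap R S)).minimalPrimes, P ≤ Q' := by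
  classical
  set Q := (maximalIdeal R).map (algebraMap R S) with hQ
  by_contra hcon
  push_neg at hcon
  have hfin : Q.minimalPrimes.Finite := Ideal.finite_minimalPrimes_of_isNoetherianRing S Q
  have hav := (Ideal.subset_union_prime (s := hfin.toFinset) (f := fun I : Ideal S => I) P P
    (fun I hI _ _ => ((hfin.mem_toFinset).mp hI).1.1) (I := P)).not.mpr (by
      rintro ⟨I, hI, hPI⟩
      exact hcon I ((hfin.mem_toFinset).mp hI) hPI)
  rw [Set.not_subset] at hav
  obtain ⟨a, haP, hau⟩ := hav
  have ha : ∀ I ∈ Q.minimalPrimes, a ∉ I := by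
    intro I hI haI
    apply hau
    simp only [Finset.coe_sort_coe, Set.mem_iUnion, SetLike.mem_coe]
    exact ⟨I, (hfin.mem_toFinset).mpr hI, haI⟩
  have hs : ∀ t : S, a * t ∈ Q → t ∈ Q := by
    intro t hat
    rw [← hrad.radical, ← Ideal.sInf_minimalPrimes, Ideal.mem_sInf]
    intro I hI
    haveI : I.IsPrime := hI.1.1
    exact (Ideal.IsPrime.mem_or_mem inferInstance (hI.1.2 hat)).resolve_left (ha I hI)
  exact notMem_nonZeroDivisors_of_mem_mem_minimalPrimes haP hP
    (mem_nonZeroDivisors_of_forall_mul_mem hne a hs)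

end Groth.Agent.H17.Flat
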